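import Cfsg.Agent.Lib.Recog.OrderM22.Lists

/-!
# Simple groups of order 443520: the triples of rows
-/

set_option autoImplicit false
set_option maxRecDepth 100000

namespace CfsgLib.Recog.OrderM22

/-- The row at eleven of the table. -/
def rowEleven : Blk :=
  ⟨11, 5, 1, [(21, false), (45, true), (45, true), (210, true)], 280, 1⟩

/-- The row at seven of the table. -/
def rowSeven : Blk := ⟨7, 3, 1, [(55, false), (99, true)], 45, 1⟩

/-- The row at five of the table. -/
def rowFive : Blk :=
  ⟨5, 4, 1, [(21, true), (99, false), (154, false), (231, true)], 0, 1⟩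

theorem check_triple : (liveSeven.all fun ab => liveFive.all fun ac =>
    !(decide (ab.1 = ac.1) && tripleLive ab.1 ab.2 ac.2) ||
      (decide (ab.1 = rowEleven) && decide (ab.2 = rowSeven) && decide (ac.2 = rowFive))) = true := by
  decide +kernel

end CfsgLib.Recog.OrderM22
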