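import Cfsg.Agent.Lib.ClassK.RowSieve

/-!
# Simple groups of order 443520: the part of the character table that the sieve yields

Interface between the block sieve and the count of elements of each order.
-/

set_option autoImplicit false

namespace CfsgLib.Recog.OrderM22

open Cfsg CfsgLib CfsgLib.Block

universe u

/-- The degrees. -/
def degs : Fin 12 → ℕ := ![1, 21, 45, 45, 55, 99, 154, 210, 231, 280, 280, 385]

/-- The values at the involution. -/
def tv : Fin 12 → ℤ := ![1, 5, -3, -3, 7, 3, 10, 2, 7, -8, -8, 1]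

/-- A Sylow subgroup of prime order `p` is its own centraliser and has automiser of order `e`. -/
def SelfCent (G : Type u) [Group G] (p e : ℕ) : Prop :=
  ∀ P : Sylow p G, Nat.card (P : Subgroup G) = p ∧
    Nat.card (Subgroup.centralizer ((P : Subgroup G) : Set G)) = p ∧
      (Subgroup.centralizer ((P : Subgroup G) : Set G)).relIndex
        (Subgroup.normalizer ((P : Subgroup G) : Set G)) = e

/-- The known part of the table. -/
structure Table (G : Type u) [Group G] where
  simple : IsSimpleGroup G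
  card : Nat.card G = 443520
  five : SelfCent G 5 4
  seven : SelfCent G 7 3
  eleven : SelfCent G 11 5
  χ : Fin 12 → IrrCharacter G
  bij : Function.Bijective χ
  deg : ∀ i, charDegree (χ i : G → ℂ) = degs i
  triv : (χ 0 : G → ℂ) = fun _ => 1
  t : G
  ht : orderOf t = 2
  ct : Nat.card (Subgroup.centralizer ({t} : Set G)) = 384
  tval : ∀ i, (χ i : G → ℂ) t = (tv i : ℂ)
  rel5 : ∀ g : G, ¬ 5 ∣ orderOf g →
    1 + (χ 1 : G → ℂ) g - (χ 5 : G → ℂ) g - (χ 6 : G → ℂ) g + (χ 8 : G → ℂ) g = 0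
  rel7 : ∀ g : G, ¬ 7 ∣ orderOf g →
    (χ 2 : G → ℂ) g = (χ 3 : G → ℂ) g ∧
      1 + (χ 5 : G → ℂ) g - (χ 4 : G → ℂ) g - (χ 2 : G → ℂ) g = 0
  rel11 : ∀ g : G, ¬ 11 ∣ orderOf g →
    (χ 9 : G → ℂ) g = (χ 10 : G → ℂ) g ∧
      1 - (χ 1 : G → ℂ) g + (χ 2 : G → ℂ) g + (χ 3 : G → ℂ) g + (χ 7 : G → ℂ) g - (χ 9 : G → ℂ) g = 0

end CfsgLib.Recog.OrderM22
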