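import Cfsg.Agent.Lib.Recog.OrderM22.Setup
import Cfsg.Agent.Lib.Recog.OrderM22.CheckTriple
import Cfsg.Agent.Lib.Recog.OrderM22.Table

/-!
# Simple groups of order 443520: the table from the rows at eleven, seven and five
-/

set_option autoImplicit false
set_option synthInstance.maxSize 2000
set_option maxHeartbeats 1000000
set_option linter.unusedSectionVars false

namespace CfsgLib.Recog.OrderM22

open Cfsg CfsgLib CfsgLib.Block CfsgLib.ClassK CfsgLib.ClassK.RowSieve CfsgLib.ClassK.RowInvolution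
open CfsgLib.Recog.OrderM12 (admissible sum_sq_le)
open scoped ComplexConjugate Classical

universe u

variable {G : Type u} [Group G] [Finite G]

/-- Classical equality of characters. -/
noncomputable local instance (priority := high) decEqIrr' : DecidableEq (IrrCharacter G) :=
  Classical.decEq _

/-- The values at a central involution of the rows at eleven, seven and five. -/
theorem check_values : (centralOrders.all fun c => (vec rowEleven c).all fun x =>
    (vecNext rowSeven c x).all fun y => (vecNext rowFive c x).all fun z =>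
      !(compatV rowEleven x y && compatV rowSeven y x && compatV rowEleven x z && compatV rowFive z x &&
          compatV rowSeven y z && compatV rowFive z y && normOK c (unionL (unionL x y) z)) ||
        (decide (c = 384) &&
          decide (x = [(1, 1), (21, 5), (45, -3), (45, -3), (210, 2), (280, -8), (280, -8)]) &&
          decide (y = [(1, 1), (55, 7), (99, 3), (45, -3), (45, -3)]) &&
          decide (z = [(1, 1), (21, 5), (99, 3), (154, 10), (231, 7)]))) = true := by
  decide +kernel

theorem exists_list_map {α β : Type*} (f : α → β) :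
    ∀ (l : List β) (m : Multiset α), m.map f = ↑l → ∃ L : List α, ↑L = m ∧ L.map f = l := by
  intro l
  induction l with
  | nil => exact fun m h => ⟨[], (Multiset.map_eq_zero.1 h).symm, rfl⟩
  | cons b l ih =>
    intro m h
    have hb : b ∈ m.map f := by rw [h]; simp
    obtain ⟨a, ha, rfl⟩ := Multiset.mem_map.1 hb
    obtain ⟨m', rfl⟩ := Multiset.exists_cons_of_mem ha
    rw [Multiset.map_cons, ← Multiset.cons_coe, Multiset.cons_inj_right] at h
    obtain ⟨L, hL, hmap⟩ := ih m' h
    exact ⟨a :: L, by rw [← Multiset.cons_coe, hL], by rw [List.map_cons, hmap]⟩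

theorem deg_lt (h : Nat.card G = 443520) (φ : IrrCharacter G) : dg φ < 666 := by
  have := Fintype.ofFinite G
  have : Fintype (IrrCharacter G) := Fintype.ofFinite _
  have h' := CfsgLib.Char.sum_irr_sq (G := G)
  simp only [← BlockB.irr_degree_cast, pow_two, h] at h'
  have h'' : ∑ ψ : IrrCharacter G, dg ψ * dg ψ = 443520 := by exact_mod_cast h'
  have h3 := Finset.single_le_sum (f := fun ψ : IrrCharacter G => dg ψ * dg ψ)
    (fun _ _ => Nat.zero_le _) (Finset.mem_univ φ)
  simp only [h''] at h3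
  by_contra hle
  push Not at hle
  have := Nat.mul_le_mul hle hle
  omega

theorem exists_central_involution (h : Nat.card G = 443520) :
    ∃ z : G, orderOf z = 2 ∧ 128 ∣ Nat.card (Subgroup.centralizer ({z} : Set G)) := by
  have : Fact (Nat.Prime 2) := ⟨Nat.prime_two⟩
  obtain ⟨S⟩ := (inferInstance : Nonempty (Sylow 2 G))
  have hS : Nat.card (S : Subgroup G) = 128 := by
    rw [S.card_eq_multiplicity, h, show (443520 : ℕ) = 128 * 3465 by norm_num,
      Nat.factorization_mul (by norm_num) (by norm_num), Finsupp.add_apply,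
      Nat.factorization_eq_zero_of_not_dvd (show ¬ 2 ∣ 3465 by norm_num), add_zero,
      show (128 : ℕ) = 2 ^ 7 by norm_num, Nat.factorization_pow_self Nat.prime_two]
  have : Nontrivial (S : Subgroup G) := Finite.one_lt_card_iff_nontrivial.1 (by rw [hS]; norm_num)
  have hZ : Nontrivial (Subgroup.center (S : Subgroup G)) := S.isPGroup'.center_nontrivial
  have h2 : 2 ∣ Nat.card (Subgroup.center (S : Subgroup G)) := by
    have hpos : 1 < Nat.card (Subgroup.center (S : Subgroup G)) := Finite.one_lt_card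
    obtain ⟨n, hn⟩ := IsPGroup.iff_card.1 (S.isPGroup'.to_subgroup (Subgroup.center (S : Subgroup G)))
    rw [hn] at hpos ⊢
    rcases n with _ | n
    · simp at hpos
    · exact dvd_pow_self 2 (Nat.succ_ne_zero n)
  obtain ⟨⟨⟨z, hzS⟩, hz⟩, hzo⟩ := exists_prime_orderOf_dvd_card' (G := Subgroup.center (S : Subgroup G)) 2 h2
  rw [Subgroup.orderOf_mk, Subgroup.orderOf_mk] at hzo
  refine ⟨z, hzo, hS ▸ Subgroup.card_dvd_of_le fun a ha => Subgroup.mem_centralizer_singleton_iff.2 ?_⟩
  exact congrArg Subtype.val (Subgroup.mem_center_iff.1 hz ⟨a, ha⟩)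

/-- The centraliser of an involution has order prime to eleven. -/
theorem card_centralizer_dvd [Fact (Nat.Prime 11)] {A : Blk} {M : Ideal AlgInt} {P : Sylow 11 G}
    {CF YF : Finset (IrrCharacter G)} {ε : IrrCharacter G → ℤ} (S : Setup 11 A M P CF YF ε)
    (hw : A.w = 1) {g : G} (hg : orderOf g = 2) :
    Nat.card (Subgroup.centralizer ({g} : Set G)) ∣ 40320 := by
  have hex := S.not_excluded hg
  have h11 : ¬ 11 ∣ Nat.card (Subgroup.centralizer ({g} : Set G)) := fun hd => by
    simp [excluded, S.prime_eq, hw, Nat.mod_eq_zero_of_dvd hd] at hex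
  have hd := Subgroup.card_subgroup_dvd_card (Subgroup.centralizer ({g} : Set G))
  rw [S.card, show (443520 : ℕ) = 11 * 40320 by norm_num] at hd
  exact (Nat.Coprime.dvd_of_dvd_mul_left
    (((show Nat.Prime 11 by norm_num).coprime_iff_not_dvd.2 h11).symm) hd)

/-- The degrees in the block at eleven are prime to eleven. -/
theorem deg_mod_eleven [Fact (Nat.Prime 11)] {A : Blk} {M : Ideal AlgInt} {P : Sylow 11 G}
    {CF YF : Finset (IrrCharacter G)} {ε : IrrCharacter G → ℤ} (S : Setup 11 A M P CF YF ε) :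
    ∀ φ ∈ CF ∪ YF, dg φ % 11 ≠ 0 := by
  intro φ hφ h0
  have hd : (11 : ℤ) ∣ (dg φ : ℤ) := by exact_mod_cast Nat.dvd_of_mod_eq_zero h0
  rcases Finset.mem_union.1 hφ with hC | hY
  · have h := dvd_add (S.rows.CF_mod φ hC) hd
    rw [sub_add_cancel] at h
    rcases S.rows.eps_pm φ hC with he | he <;> rw [he] at h <;> norm_num at h
  · rw [show dg φ = A.d from S.rows.YF_deg φ hY] at hd
    have ht : A.t ≠ 1 := fun ht => by
      have := Finset.card_pos.2 ⟨φ, hY⟩
      rw [S.rows.card_YF, if_pos ht] at this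
      exact lt_irrefl _ this
    have h := dvd_add (S.rows.d₀_mod ht) hd
    rw [sub_add_cancel, Nat.cast_ofNat] at h
    have hte := S.rows.hte
    have he2 := S.rows.e_two
    have htpos : 1 ≤ A.t := by
      rcases Nat.eq_zero_or_pos A.t with h' | h'
      · rw [h', zero_mul, zero_add] at hte; norm_num at hte
      · exact h'
    have h' : (11 : ℤ) ∣ (A.e : ℤ) := by rcases S.rows.sign with hs | hs <;> simpa [hs] using h
    have hle : A.e ≤ A.t * A.e := Nat.le_mul_of_pos_left _ htpos
    omega

/-- Three rows at one involution. -/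
theorem exists_triple [Fact (Nat.Prime 11)] {p q : ℕ} [Fact p.Prime] [Fact q.Prime] {A B C : Blk}
    {MA MB MC : Ideal AlgInt} {PA : Sylow 11 G} {PB : Sylow p G} {PC : Sylow q G}
    {CFA YFA CFB YFB CFC YFC : Finset (IrrCharacter G)} {εA εB εC : IrrCharacter G → ℤ}
    (SA : Setup 11 A MA PA CFA YFA εA) (hw : A.w = 1) (SB : Setup p B MB PB CFB YFB εB)
    (SC : Setup q C MC PC CFC YFC εC) {g : G} (hg : orderOf g = 2) :
    ∃ v : IrrCharacter G → ℤ, v oneChar = 1 ∧ (∀ φ : IrrCharacter G, (φ : G → ℂ) g = v φ) ∧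
      ∃ x ∈ vec A (Nat.card (Subgroup.centralizer ({g} : Set G))),
      ∃ y ∈ vecNext B (Nat.card (Subgroup.centralizer ({g} : Set G))) x,
      ∃ z ∈ vecNext C (Nat.card (Subgroup.centralizer ({g} : Set G))) x,
        (compatV A x y && compatV B y x && compatV A x z && compatV C z x && compatV B y z &&
            compatV C z y && normOK (Nat.card (Subgroup.centralizer ({g} : Set G)))
              (unionL (unionL x y) z)) = true ∧
        (CFA ∪ YFA).val.map (vKey v) = ↑x ∧ (CFB ∪ YFB).val.map (vKey v) = ↑y ∧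
          (CFC ∪ YFC).val.map (vKey v) = ↑z := by
  haveI := SA.simple
  have : Fintype (IrrCharacter G) := Fintype.ofFinite _
  obtain ⟨v, hv1, hv⟩ := exists_values SA.card hg
  obtain ⟨x, hx, hxk⟩ := SA.exists_vec hg v hv1 hv
  have hdis := deg_mod_eleven SA
  obtain ⟨y, hy, hyk⟩ := SB.exists_vecNext SA rfl hw hg v hv1 hv hxk hdis
  obtain ⟨z, hz, hzk⟩ := SC.exists_vecNext SA rfl hw hg v hv1 hv hxk hdis
  refine ⟨v, hv1, fun φ => (hv φ).1, x, hx, y, hy, z, hz, ?_, hxk, hyk, hzk⟩
  simp only [Bool.and_eq_true]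
  refine ⟨⟨⟨⟨⟨⟨SA.compatV_of v hxk hyk, SB.compatV_of v hyk hxk⟩, SA.compatV_of v hxk hzk⟩,
    SC.compatV_of v hzk hxk⟩, SB.compatV_of v hyk hzk⟩, SC.compatV_of v hzk hyk⟩, ?_⟩
  set U := (CFA ∪ YFA) ∪ (CFB ∪ YFB) ∪ (CFC ∪ YFC) with hU
  have hle : (↑(unionL (unionL x y) z) : Multiset (ℕ × ℤ)) ≤ U.val.map (vKey v) := by
    rw [coe_unionL, coe_unionL, ← hxk, ← hyk, ← hzk]
    refine Multiset.union_le (Multiset.union_le ?_ ?_) ?_ <;>
      refine Multiset.map_le_map (Finset.val_le_iff.2 fun φ hφ => ?_) <;> simp only [hU, Finset.mem_union] at hφ ⊢ <;>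
      tauto
  obtain ⟨rest, hrest⟩ := Multiset.le_iff_exists_add.1 hle
  rw [normOK, decide_eq_true_eq]
  have h := sum_sq_le g U v fun φ _ => (hv φ).1
  have e : ∑ φ ∈ U, v φ * v φ = ((U.val.map (vKey v)).map fun k => k.2 * k.2).sum := by
    rw [Multiset.map_map]; rfl
  rw [e, hrest, Multiset.map_add, Multiset.sum_add, Multiset.map_coe, Multiset.sum_coe] at h
  have hnn : 0 ≤ (rest.map fun k : ℕ × ℤ => k.2 * k.2).sum := Multiset.sum_nonneg fun a ha => by
    obtain ⟨k, -, rfl⟩ := Multiset.mem_map.1 ha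
    exact mul_self_nonneg _
  linarith

theorem selfCent_of_rows {p : ℕ} [Fact p.Prime] {B : Blk} {M : Ideal AlgInt} {P : Sylow p G}
    {CF YF : Finset (IrrCharacter G)} {ε : IrrCharacter G → ℤ} (S : Setup p B M P CF YF ε)
    (hw : B.w = 1) :
    Nat.card (P : Subgroup G) = p ∧
      Nat.card (Subgroup.centralizer ((P : Subgroup G) : Set G)) = p ∧
      (Subgroup.centralizer ((P : Subgroup G) : Set G)).relIndex
        (Subgroup.normalizer ((P : Subgroup G) : Set G)) = B.e :=
  ⟨S.card_P, by rw [S.card_C, hw, mul_one], S.rows.e_eq⟩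

/-- The table from the three rows. -/
theorem table_of_rows [Fact (Nat.Prime 11)] [Fact (Nat.Prime 7)] [Fact (Nat.Prime 5)]
    {MA MB MC : Ideal AlgInt} {PA : Sylow 11 G} {PB : Sylow 7 G} {PC : Sylow 5 G}
    {CFA YFA CFB YFB CFC YFC : Finset (IrrCharacter G)} {εA εB εC : IrrCharacter G → ℤ}
    (SA : Setup 11 rowEleven MA PA CFA YFA εA) (SB : Setup 7 rowSeven MB PB CFB YFB εB)
    (SC : Setup 5 rowFive MC PC CFC YFC εC) (h5 : SelfCent G 5 4) (h7 : SelfCent G 7 3)
    (h11 : SelfCent G 11 5) : Nonempty (Table G) := by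
  haveI := SA.simple
  have := Fintype.ofFinite G
  have : Fintype (IrrCharacter G) := Fintype.ofFinite _
  have hcard := SA.card
  obtain ⟨z, hz, h128⟩ := exists_central_involution hcard
  obtain ⟨v, hv1, hv, x, hx, y, hy, w, hw, hok, hxk, hyk, hwk⟩ := exists_triple SA rfl SB SC hz
  have hc := mem_centralOrders (card_centralizer_dvd SA rfl hz) h128
  have hchk := List.all_eq_true.1 (List.all_eq_true.1
    (List.all_eq_true.1 (List.all_eq_true.1 check_values _ hc) x hx) y hy) w hw
  rw [hok] at hchk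
  simp only [Bool.not_true, Bool.false_or, Bool.and_eq_true, decide_eq_true_eq] at hchk
  obtain ⟨⟨⟨hc384, rfl⟩, rfl⟩, rfl⟩ := hchk
  -- the members
  obtain ⟨LA, hLA, hLAm⟩ := exists_list_map _ _ _ SA.map
  obtain ⟨LB, hLB, hLBm⟩ := exists_list_map _ _ _ SB.map
  obtain ⟨LC, hLC, hLCm⟩ := exists_list_map _ _ _ SC.map
  simp only [rowEleven, rowSeven, rowFive, List.map_eq_cons_iff, List.map_eq_nil_iff] at hLAm hLBm hLCm
  obtain ⟨a, _, rfl, ha, b, _, rfl, hb, c, _, rfl, hc', d, _, rfl, hd, rfl⟩ := hLAm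
  obtain ⟨f, _, rfl, hf, k, _, rfl, hk, rfl⟩ := hLBm
  obtain ⟨a', _, rfl, ha', k', _, rfl, hk', m, _, rfl, hm, n, _, rfl, hn, rfl⟩ := hLCm
  have hdeg : ∀ {ε : IrrCharacter G → ℤ} {φ : IrrCharacter G} {D : ℕ} {s : Bool},
      sKey ε φ = (D, s) → dg φ = D := fun he => congrArg Prod.fst he
  have heps : ∀ {ε : IrrCharacter G → ℤ} {φ : IrrCharacter G} {D : ℕ} {s : Bool},
      sKey ε φ = (D, s) → (ε φ = 1 ↔ s = true) := fun he => by
    have h := congrArg Prod.snd he
    simp only [sKey] at h
    rw [← h, decide_eq_true_eq]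
  have hA5 : rowEleven.t = 2 := rfl
  have hB3 : rowSeven.t = 2 := rfl
  have hC4 : rowFive.t = 1 := rfl
  obtain ⟨y1, y2, hy12, hYA⟩ := Finset.card_eq_two.1
    (show YFA.card = 2 by rw [SA.card_YF_eq]; rfl)
  have hy1 : dg y1 = 280 := SA.rows.YF_deg y1 (by simp [hYA])
  have hy2 : dg y2 = 280 := SA.rows.YF_deg y2 (by simp [hYA])
  have hAmem : ∀ φ, φ ∈ CFA ∪ YFA ↔ φ = oneChar ∨ φ ∈ [a, b, c, d] ∨ φ = y1 ∨ φ = y2 := fun φ => by
    rw [Finset.mem_union, hYA]
    have : φ ∈ CFA ↔ φ = oneChar ∨ φ ∈ [a, b, c, d] := by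
      rw [← Multiset.mem_coe, hLA]
      by_cases h : φ = oneChar
      · simp [h, show oneChar ∈ CFA from SA.rows.one_mem]
      · rw [Finset.mem_val, Finset.mem_erase]
        simp [h]
    rw [this]
    simp [or_assoc]
  have hBmem : ∀ φ, φ ∈ CFB ↔ φ = oneChar ∨ φ ∈ [f, k] := fun φ => by
    rw [← Multiset.mem_coe, hLB]
    by_cases h : φ = oneChar
    · simp [h, show oneChar ∈ CFB from SB.rows.one_mem]
    · rw [Finset.mem_val, Finset.mem_erase]
      simp [h]
  have hCmem : ∀ φ, φ ∈ CFC ∪ YFC ↔ φ = oneChar ∨ φ ∈ [a', k', m, n] := fun φ => by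
    have hY : YFC = ∅ := Finset.card_eq_zero.1 (by rw [SC.card_YF_eq]; rfl)
    rw [hY, Finset.union_empty, ← Multiset.mem_coe, hLC]
    by_cases h : φ = oneChar
    · simp [h, show oneChar ∈ CFC from SC.rows.one_mem]
    · rw [Finset.mem_val, Finset.mem_erase]
      simp [h]
  -- identifications
  have hda := hdeg ha
  have hdb := hdeg hb
  have hdc := hdeg hc'
  have hdd := hdeg hd
  have hdf := hdeg hf
  have hdk := hdeg hk
  have hda' := hdeg ha'
  have hdk' := hdeg hk'
  have hdm := hdeg hm
  have hdn := hdeg hn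
  have haa : a' = a := by
    have hin : a' ∈ CFA ∪ YFA := by
      by_contra hnot
      have := SA.dvd_deg rfl hnot
      omega
    rcases (hAmem a').1 hin with h | h | h | h
    · rw [h, deg_oneChar] at hda'; omega
    · simp only [List.mem_cons, List.not_mem_nil, or_false] at h
      rcases h with h | h | h | h
      · exact h
      all_goals (rw [h] at hda'; omega)
    all_goals (rw [h] at hda'; omega)
  have hkk : k' = k := by
    have hin : k ∈ CFC ∪ YFC := by
      by_contra hnot
      have := SC.dvd_deg rfl hnot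
      omega
    rcases (hCmem k).1 hin with h | h
    · rw [h, deg_oneChar] at hdk; omega
    · simp only [List.mem_cons, List.not_mem_nil, or_false] at h
      rcases h with h | h | h | h
      · rw [h] at hdk; omega
      · exact h.symm
      all_goals (rw [h] at hdk; omega)
  subst haa
  subst hkk
  have hndA : [a', b, c, d].Nodup := by
    have h := (CFA.erase oneChar).nodup
    rw [← hLA, Multiset.coe_nodup] at h
    exact h
  have hbc : b ≠ c := fun h => by
    subst h
    simp at hndA
  have hYB : YFB = {b, c} := by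
    refine Finset.eq_of_subset_of_card_le (fun φ hφ => ?_)
      (by rw [Finset.card_pair hbc, SB.card_YF_eq]; rfl)
    have hd45 : dg φ = 45 := SB.rows.YF_deg φ hφ
    have hin : φ ∈ CFA ∪ YFA := by
      by_contra hnot
      have := SA.dvd_deg rfl hnot
      omega
    rcases (hAmem φ).1 hin with h | h | h | h
    · rw [h, deg_oneChar] at hd45; omega
    · simp only [List.mem_cons, List.not_mem_nil, or_false] at h
      rcases h with h | h | h | h
      · rw [h] at hd45; omega
      · simp [h]
      · simp [h]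
      · rw [h] at hd45; omega
    all_goals (rw [h] at hd45; omega)
  -- the eleven known characters and the last one
  let L : List (IrrCharacter G) := [oneChar, a', b, c, f, k', m, d, n, y1, y2]
  have hLdeg : L.map dg = [1, 21, 45, 45, 55, 99, 154, 210, 231, 280, 280] := by
    simp [L, deg_oneChar, hda, hdb, hdc, hdf, hdk, hdm, hdd, hdn, hy1, hy2]
  have hLnd : L.Nodup := by
    simp only [L, List.nodup_cons, List.mem_cons, List.not_mem_nil, or_false, List.nodup_nil, and_true,
      not_or, not_false_eq_true]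
    repeat' apply And.intro
    all_goals first
      | exact hbc
      | exact hy12
      | (intro h; have h' := congrArg dg h
         simp only [deg_oneChar, hda, hdb, hdc, hdf, hdk, hdm, hdd, hdn, hy1, hy2] at h'
         omega)
  have hsumsq : ∑ φ : IrrCharacter G, dg φ * dg φ = 443520 := by
    have h' := CfsgLib.Char.sum_irr_sq (G := G)
    simp only [← BlockB.irr_degree_cast, pow_two, hcard] at h'
    exact_mod_cast h'
  set R := (Finset.univ : Finset (IrrCharacter G)) \ L.toFinset with hR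
  have hLsum : ∀ F : IrrCharacter G → ℕ, ∑ φ ∈ L.toFinset, F φ = (L.map F).sum := fun F =>
    List.sum_toFinset _ hLnd
  have hRsum : ∑ φ ∈ R, dg φ * dg φ = 148225 := by
    have h := Finset.sum_sdiff (f := fun φ : IrrCharacter G => dg φ * dg φ)
      (Finset.subset_univ L.toFinset)
    rw [hLsum, hsumsq, show (fun φ : IrrCharacter G => dg φ * dg φ) = (fun D => D * D) ∘ dg from rfl,
      ← List.map_map, hLdeg] at h
    simp only [List.map_cons, List.map_nil, List.sum_cons, List.sum_nil] at h
    rw [hR]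
    exact Nat.add_right_cancel (h.trans (by norm_num))
  have hR385 : ∀ φ ∈ R, dg φ = 385 := fun φ hφ => by
    have hnot : φ ∉ L := fun h => (Finset.mem_sdiff.1 hφ).2 (List.mem_toFinset.2 h)
    simp only [L, List.mem_cons, List.not_mem_nil, or_false, not_or] at hnot
    obtain ⟨n0, n1, n2, n3, n4, n5, n6, n7, n8, n9, n10⟩ := hnot
    have d11 := SA.dvd_deg rfl (φ := φ) fun h => by
      rcases (hAmem φ).1 h with h' | h' | h' | h'
      · exact n0 h'
      · simp only [List.mem_cons, List.not_mem_nil, or_false] at h'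
        tauto
      · exact n9 h'
      · exact n10 h'
    have d7 := SB.dvd_deg rfl (φ := φ) fun h => by
      rcases Finset.mem_union.1 h with h' | h'
      · rw [hBmem] at h'
        simp only [List.mem_cons, List.not_mem_nil, or_false] at h'
        tauto
      · rw [hYB] at h'
        simp only [Finset.mem_insert, Finset.mem_singleton] at h'
        tauto
    have d5 := SC.dvd_deg rfl (φ := φ) fun h => by
      rw [hCmem] at h
      simp only [List.mem_cons, List.not_mem_nil, or_false] at h
      tauto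
    have hlt := deg_lt hcard φ
    have hpos : 0 < dg φ := BlockB.irr_degree_pos φ
    omega
  have hRcard : R.card = 1 := by
    rw [Finset.sum_congr rfl fun φ hφ => by rw [hR385 φ hφ], Finset.sum_const, smul_eq_mul] at hRsum
    omega
  obtain ⟨r, hr⟩ := Finset.card_eq_one.1 hRcard
  have hdr : dg r = 385 := hR385 r (by simp [hr])
  have hrL : r ∉ L := fun h =>
    (Finset.mem_sdiff.1 (show r ∈ R by simp [hr])).2 (List.mem_toFinset.2 h)
  have huniv : ∀ φ : IrrCharacter G, φ ∈ L ∨ φ = r := fun φ => by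
    by_cases h : φ ∈ L
    · exact Or.inl h
    · exact Or.inr (Finset.mem_singleton.1 (hr ▸ Finset.mem_sdiff.2
        ⟨Finset.mem_univ _, fun h' => h (List.mem_toFinset.1 h')⟩))
  let χ : Fin 12 → IrrCharacter G := ![oneChar, a', b, c, f, k', m, d, n, y1, y2, r]
  have hχdeg : ∀ i, dg (χ i) = degs i := by
    intro i
    fin_cases i <;> simp [χ, degs, deg_oneChar, hda, hdb, hdc, hdf, hdk, hdm, hdd, hdn, hy1, hy2, hdr]
  have hbij : Function.Bijective χ := by
    refine ⟨fun i j hij => ?_, fun φ => ?_⟩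
    · rcases same_deg_aux i j (by rw [← hχdeg i, ← hχdeg j, hij]) with
        rfl | ⟨rfl, rfl⟩ | ⟨rfl, rfl⟩ | ⟨rfl, rfl⟩ | ⟨rfl, rfl⟩
      · rfl
      · exact absurd hij hbc
      · exact absurd hij.symm hbc
      · exact absurd hij hy12
      · exact absurd hij.symm hy12
    · rcases huniv φ with h | h
      · simp only [L, List.mem_cons, List.not_mem_nil, or_false] at h
        rcases h with h | h | h | h | h | h | h | h | h | h | h
        exacts [⟨0, h.symm⟩, ⟨1, h.symm⟩, ⟨2, h.symm⟩, ⟨3, h.symm⟩, ⟨4, h.symm⟩, ⟨5, h.symm⟩,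
          ⟨6, h.symm⟩, ⟨7, h.symm⟩, ⟨8, h.symm⟩, ⟨9, h.symm⟩, ⟨10, h.symm⟩]
      · exact ⟨11, h.symm⟩
  -- the values at the central involution
  have hvA : ∀ φ ∈ CFA ∪ YFA, vKey v φ ∈
      [((1 : ℕ), (1 : ℤ)), (21, 5), (45, -3), (45, -3), (210, 2), (280, -8), (280, -8)] := fun φ hφ => by
    have h := Multiset.mem_map_of_mem (vKey v) (show φ ∈ Finset.val _ from hφ)
    rw [hxk] at h
    exact h
  have hvB : ∀ φ ∈ CFB ∪ YFB, vKey v φ ∈
      [((1 : ℕ), (1 : ℤ)), (55, 7), (99, 3), (45, -3), (45, -3)] := fun φ hφ => by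
    have h := Multiset.mem_map_of_mem (vKey v) (show φ ∈ Finset.val _ from hφ)
    rw [hyk] at h
    exact h
  have hvC : ∀ φ ∈ CFC ∪ YFC, vKey v φ ∈
      [((1 : ℕ), (1 : ℤ)), (21, 5), (99, 3), (154, 10), (231, 7)] := fun φ hφ => by
    have h := Multiset.mem_map_of_mem (vKey v) (show φ ∈ Finset.val _ from hφ)
    rw [hwk] at h
    exact h
  have va := hvA a' ((hAmem a').2 (by simp))
  have vb := hvA b ((hAmem b).2 (by simp))
  have vc := hvA c ((hAmem c).2 (by simp))
  have vd := hvA d ((hAmem d).2 (by simp))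
  have vy1 := hvA y1 ((hAmem y1).2 (by simp))
  have vy2 := hvA y2 ((hAmem y2).2 (by simp))
  have vf := hvB f (Finset.mem_union_left _ ((hBmem f).2 (by simp)))
  have vk := hvB k' (Finset.mem_union_left _ ((hBmem k').2 (by simp)))
  have vm := hvC m ((hCmem m).2 (by simp))
  have vn := hvC n ((hCmem n).2 (by simp))
  simp [vKey, hda, hdb, hdc, hdd, hy1, hy2, hdf, hdk, hdm, hdn] at va vb vc vd vy1 vy2 vf vk vm vn
  have hvr : v r = 1 := by
    have hne : ¬ IsConj (1 : G) z := fun h => by
      obtain rfl : z = 1 := isConj_one_right.1 h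
      simp at hz
    have h := Char.column_orthogonality (1 : G) z
    rw [if_neg hne] at h
    have h' : ∑ φ : IrrCharacter G, ((dg φ : ℤ) * v φ : ℤ) = 0 := by
      have e : (((∑ φ : IrrCharacter G, ((dg φ : ℤ) * v φ : ℤ)) : ℤ) : ℂ) = 0 := by
        rw [← h, Int.cast_sum]
        refine Finset.sum_congr rfl fun φ _ => ?_
        rw [hv φ, map_intCast, ← BlockB.irr_degree_cast]
        push_cast
        rfl
      exact_mod_cast e
    rw [← hbij.sum_comp (fun φ => (dg φ : ℤ) * v φ)] at h'
    simp [χ, Fin.sum_univ_succ, deg_oneChar, hv1, hda, hdb, hdc, hdd, hy1, hy2, hdf, hdk, hdm, hdn, hdr,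
      va, vb, vc, vd, vy1, vy2, vf, vk, vm, vn] at h'
    omega
  refine ⟨⟨inferInstance, hcard, h5, h7, h11, χ, hbij, hχdeg, rfl, z, hz, hc384, fun i => ?_, ?_, ?_, ?_⟩⟩
  · rw [hv]
    fin_cases i <;> simp [χ, tv, hv1, va, vb, vc, vd, vy1, vy2, vf, vk, vm, vn, hvr]
  · intro g hg
    have h := SC.rows.relation_one rfl g hg
    rw [← Finset.add_sum_erase CFC _ (show oneChar ∈ CFC from SC.rows.one_mem),
      show εC oneChar = 1 from SC.rows.eps_one, Finset.sum_eq_multiset_sum, ← hLC] at h
    simp only [Multiset.map_coe, Multiset.sum_coe, List.map_cons, List.map_nil, List.sum_cons,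
      List.sum_nil] at h
    have e1 := (heps ha').2 rfl
    have e2 : εC k' = -1 := (SC.rows.eps_pm k' ?_).resolve_left fun h' => by simpa using (heps hk').1 h'
    have e3 : εC m = -1 := (SC.rows.eps_pm m ?_).resolve_left fun h' => by simpa using (heps hm).1 h'
    have e4 := (heps hn).2 rfl
    · rw [e1, e2, e3, e4] at h
      simp [χ] at h ⊢
      linear_combination h
    all_goals exact (Finset.mem_union.1 ((hCmem _).2 (by simp))).resolve_right (by
      rw [show YFC = ∅ from Finset.card_eq_zero.1 (by rw [SC.card_YF_eq]; rfl)]; simp)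
  · intro g hg
    have hk2 := SB.rows.relation (by decide) b (by rw [hYB]; simp) g hg
    have hk3 := SB.rows.relation (by decide) c (by rw [hYB]; simp) g hg
    have hσ : ((rowSeven.σ : ℤ) : ℂ) = 1 := by simp [rowSeven]
    rw [hσ, one_mul] at hk2 hk3
    rw [← Finset.add_sum_erase CFB _ (show oneChar ∈ CFB from SB.rows.one_mem),
      show εB oneChar = 1 from SB.rows.eps_one, Finset.sum_eq_multiset_sum, ← hLB] at hk2 hk3
    simp only [Multiset.map_coe, Multiset.sum_coe, List.map_cons, List.map_nil, List.sum_cons,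
      List.sum_nil] at hk2 hk3
    have e1 : εB f = -1 := (SB.rows.eps_pm f ((hBmem f).2 (by simp))).resolve_left fun h' => by
      simpa using (heps hf).1 h'
    have e2 := (heps hk).2 rfl
    rw [e1, e2] at hk2 hk3
    refine ⟨by simp [χ]; linear_combination hk3 - hk2, ?_⟩
    simp [χ] at hk2 ⊢
    linear_combination hk2
  · intro g hg
    have hk2 := SA.rows.relation (by decide) y1 (by rw [hYA]; simp) g hg
    have hk3 := SA.rows.relation (by decide) y2 (by rw [hYA]; simp) g hg
    have hσ : ((rowEleven.σ : ℤ) : ℂ) = 1 := by simp [rowEleven]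
    rw [hσ, one_mul] at hk2 hk3
    rw [← Finset.add_sum_erase CFA _ (show oneChar ∈ CFA from SA.rows.one_mem),
      show εA oneChar = 1 from SA.rows.eps_one, Finset.sum_eq_multiset_sum, ← hLA] at hk2 hk3
    simp only [Multiset.map_coe, Multiset.sum_coe, List.map_cons, List.map_nil, List.sum_cons,
      List.sum_nil] at hk2 hk3
    have hin : ∀ φ ∈ [a', b, c, d], φ ∈ CFA := fun φ hφ => Finset.mem_of_mem_erase
      (show φ ∈ (CFA.erase oneChar).val by rw [← hLA]; exact hφ)
    have e1 : εA a' = -1 := (SA.rows.eps_pm a' (hin _ (by simp))).resolve_left fun h' => by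
      simpa using (heps ha).1 h'
    have e2 := (heps hb).2 rfl
    have e3 := (heps hc').2 rfl
    have e4 := (heps hd).2 rfl
    rw [e1, e2, e3, e4] at hk2 hk3
    refine ⟨by simp [χ]; linear_combination hk3 - hk2, ?_⟩
    simp [χ] at hk2 ⊢
    linear_combination hk2
where
  same_deg_aux : ∀ i j : Fin 12, degs i = degs j →
      i = j ∨ (i = 2 ∧ j = 3) ∨ (i = 3 ∧ j = 2) ∨ (i = 9 ∧ j = 10) ∨ (i = 10 ∧ j = 9) := by
    decide

end CfsgLib.Recog.OrderM22
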