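import Cfsg.Agent.Lib.Recog.OrderM22.CheckRows

/-!
# Simple groups of order 443520: the rows at eleven at a central involution
-/

set_option autoImplicit false
set_option maxRecDepth 100000
set_option Elab.async false

namespace CfsgLib.Recog.OrderM22

theorem check_dead_0 : (((deadEleven.drop 0).take 10).all fun A =>
    centralOrders.all fun c => (vec A c).isEmpty) = true := by
  decide +kernel

theorem check_dead_1 : (((deadEleven.drop 10).take 10).all fun A =>
    centralOrders.all fun c => (vec A c).isEmpty) = true := by
  decide +kernel

theorem check_dead_2 : (((deadEleven.drop 20).take 10).all fun A =>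
    centralOrders.all fun c => (vec A c).isEmpty) = true := by
  decide +kernel

theorem check_dead_3 : (((deadEleven.drop 30).take 10).all fun A =>
    centralOrders.all fun c => (vec A c).isEmpty) = true := by
  decide +kernel

theorem check_dead_4 : (((deadEleven.drop 40).take 10).all fun A =>
    centralOrders.all fun c => (vec A c).isEmpty) = true := by
  decide +kernel

theorem check_dead_5 : (((deadEleven.drop 50).take 10).all fun A =>
    centralOrders.all fun c => (vec A c).isEmpty) = true := by
  decide +kernel

theorem check_dead_6 : (((deadEleven.drop 60).take 10).all fun A =>
    centralOrders.all fun c => (vec A c).isEmpty) = true := by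
  decide +kernel

theorem check_dead_7 : (((deadEleven.drop 70).take 10).all fun A =>
    centralOrders.all fun c => (vec A c).isEmpty) = true := by
  decide +kernel

theorem check_dead_8 : (((deadEleven.drop 80).take 10).all fun A =>
    centralOrders.all fun c => (vec A c).isEmpty) = true := by
  decide +kernel

theorem check_dead_9 : (((deadEleven.drop 90).take 10).all fun A =>
    centralOrders.all fun c => (vec A c).isEmpty) = true := by
  decide +kernel

theorem check_dead_10 : (((deadEleven.drop 100).take 10).all fun A =>
    centralOrders.all fun c => (vec A c).isEmpty) = true := by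
  decide +kernel

theorem check_eleven {A : Blk} (hA : A ∈ rowsOf 11 5 1 fun _ => true) {c : ℕ}
    (hc : c ∈ centralOrders) (hv : vec A c ≠ []) : A ∈ liveEleven := by
  have h := List.all_eq_true.1 check_rows A hA
  simp only [Bool.or_eq_true, List.contains_iff_mem] at h
  rcases h with h | h
  · exact h
  · obtain ⟨i, hi, rfl⟩ := List.mem_iff_getElem.1 h
    exfalso
    have key : ∀ k, (((deadEleven.drop (10 * k)).take 10).all fun A =>
        centralOrders.all fun c => (vec A c).isEmpty) = true := by
      intro k
      by_cases hk : k < 11
      · interval_cases k
        exacts [check_dead_0, check_dead_1, check_dead_2, check_dead_3, check_dead_4, check_dead_5, check_dead_6, check_dead_7, check_dead_8, check_dead_9, check_dead_10]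
      · rw [List.drop_eq_nil_of_le (by simp [deadEleven]; omega)]
        rfl
    have h' := List.all_eq_true.1 (key (i / 10)) deadEleven[i] ?_
    · exact hv (List.isEmpty_iff.1 (List.all_eq_true.1 h' c hc))
    · rw [List.mem_iff_getElem]
      exact ⟨i % 10, by simp; omega, by simp [Nat.div_add_mod]⟩

end CfsgLib.Recog.OrderM22
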