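import Cfsg.Agent.Lib.Recog.OrderM22.Lists

/-!
# Simple groups of order 443520: the pairs of rows at eleven and five, part 1
-/

set_option autoImplicit false
set_option maxRecDepth 100000
set_option Elab.async false

namespace CfsgLib.Recog.OrderM22

theorem check_five_0 :
    (((liveEleven.drop 0).take 1).all (stepOK 5 liveFive)) = true := by
  decide +kernel

theorem check_five_1 :
    (((liveEleven.drop 1).take 1).all (stepOK 5 liveFive)) = true := by
  decide +kernel

theorem check_five_2 :
    (((liveEleven.drop 2).take 1).all (stepOK 5 liveFive)) = true := by
  decide +kernel

theorem check_five_3 :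
    (((liveEleven.drop 3).take 1).all (stepOK 5 liveFive)) = true := by
  decide +kernel

theorem check_five_4 :
    (((liveEleven.drop 4).take 1).all (stepOK 5 liveFive)) = true := by
  decide +kernel

theorem check_five_5 :
    (((liveEleven.drop 5).take 1).all (stepOK 5 liveFive)) = true := by
  decide +kernel

theorem check_five_6 :
    (((liveEleven.drop 6).take 1).all (stepOK 5 liveFive)) = true := by
  decide +kernel

theorem check_five_7 :
    (((liveEleven.drop 7).take 1).all (stepOK 5 liveFive)) = true := by
  decide +kernel

theorem check_five_8 :
    (((liveEleven.drop 8).take 1).all (stepOK 5 liveFive)) = true := by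
  decide +kernel

theorem check_five_9 :
    (((liveEleven.drop 9).take 1).all (stepOK 5 liveFive)) = true := by
  decide +kernel

end CfsgLib.Recog.OrderM22
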