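import Cfsg.Agent.Lib.Recog.OrderM22.Lists

/-!
# Simple groups of order 443520: the pairs of rows at eleven and five, part 4
-/

set_option autoImplicit false
set_option maxRecDepth 100000
set_option Elab.async false

namespace CfsgLib.Recog.OrderM22

theorem check_five_30 :
    (((liveEleven.drop 30).take 1).all (stepOK 5 liveFive)) = true := by
  decide +kernel

theorem check_five_31 :
    (((liveEleven.drop 31).take 1).all (stepOK 5 liveFive)) = true := by
  decide +kernel

theorem check_five_32 :
    (((liveEleven.drop 32).take 1).all (stepOK 5 liveFive)) = true := by
  decide +kernel

theorem check_five_33 :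
    (((liveEleven.drop 33).take 1).all (stepOK 5 liveFive)) = true := by
  decide +kernel

theorem check_five_34 :
    (((liveEleven.drop 34).take 1).all (stepOK 5 liveFive)) = true := by
  decide +kernel

theorem check_five_35 :
    (((liveEleven.drop 35).take 1).all (stepOK 5 liveFive)) = true := by
  decide +kernel

theorem check_five_36 :
    (((liveEleven.drop 36).take 1).all (stepOK 5 liveFive)) = true := by
  decide +kernel

theorem check_five_37 :
    (((liveEleven.drop 37).take 1).all (stepOK 5 liveFive)) = true := by
  decide +kernel

theorem check_five_38 :
    (((liveEleven.drop 38).take 1).all (stepOK 5 liveFive)) = true := by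
  decide +kernel

end CfsgLib.Recog.OrderM22
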