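import Cfsg.Agent.Lib.Recog.OrderM22.Lists

/-!
# Simple groups of order 443520: the rows at eleven by degrees
-/

set_option autoImplicit false
set_option maxRecDepth 100000
set_option Elab.async false

namespace CfsgLib.Recog.OrderM22

/-- The rows at eleven without values at a central involution. -/
def deadEleven : List Blk :=
  [⟨11, 5, 1, [(252, false), (320, true), (320, true), (384, false)], 5, 1⟩,
  ⟨11, 5, 1, [(210, true), (252, false), (320, true), (384, false)], 105, -1⟩,
  ⟨11, 5, 1, [(144, true), (210, true), (210, true), (560, false)], 5, 1⟩,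
  ⟨11, 5, 1, [(56, true), (120, false), (252, false), (320, true)], 5, 1⟩,
  ⟨11, 5, 1, [(56, true), (56, true), (144, true), (252, false)], 5, 1⟩,
  ⟨11, 5, 1, [(45, true), (210, true), (320, true), (384, false)], 192, 1⟩,
  ⟨11, 5, 1, [(45, true), (144, true), (320, true), (384, false)], 126, 1⟩,
  ⟨11, 5, 1, [(45, true), (144, true), (210, true), (560, false)], 160, -1⟩,
  ⟨11, 5, 1, [(45, true), (144, true), (210, true), (384, false)], 16, 1⟩,
  ⟨11, 5, 1, [(45, true), (120, false), (252, false), (320, true)], 6, -1⟩,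
  ⟨11, 5, 1, [(45, true), (56, true), (210, true), (384, false)], 72, -1⟩,
  ⟨11, 5, 1, [(45, true), (56, true), (210, true), (252, false)], 60, 1⟩,
  ⟨11, 5, 1, [(45, true), (56, true), (144, true), (252, false)], 6, -1⟩,
  ⟨11, 5, 1, [(45, true), (45, true), (56, true), (252, false)], 105, -1⟩,
  ⟨11, 5, 1, [(45, true), (45, true), (45, true), (144, true)], 280, 1⟩,
  ⟨11, 5, 1, [(45, true), (45, true), (45, true), (120, false)], 16, 1⟩,
  ⟨11, 5, 1, [(45, true), (45, true), (45, true), (56, true)], 192, 1⟩,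
  ⟨11, 5, 1, [(32, false), (210, true), (210, true), (384, false)], 5, 1⟩,
  ⟨11, 5, 1, [(32, false), (144, true), (144, true), (252, false)], 5, 1⟩,
  ⟨11, 5, 1, [(32, false), (45, true), (210, true), (384, false)], 160, -1⟩,
  ⟨11, 5, 1, [(32, false), (45, true), (210, true), (252, false)], 28, -1⟩,
  ⟨11, 5, 1, [(32, false), (45, true), (56, true), (210, true)], 280, 1⟩,
  ⟨11, 5, 1, [(32, false), (45, true), (56, true), (56, true)], 126, 1⟩,
  ⟨11, 5, 1, [(32, false), (32, false), (252, false), (320, true)], 5, 1⟩,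
  ⟨11, 5, 1, [(32, false), (32, false), (210, true), (252, false)], 105, -1⟩,
  ⟨11, 5, 1, [(32, false), (32, false), (45, true), (210, true)], 192, 1⟩,
  ⟨11, 5, 1, [(32, false), (32, false), (45, true), (144, true)], 126, 1⟩,
  ⟨11, 5, 1, [(21, false), (144, true), (320, true), (384, false)], 60, 1⟩,
  ⟨11, 5, 1, [(21, false), (144, true), (252, false), (320, true)], 192, 1⟩,
  ⟨11, 5, 1, [(21, false), (144, true), (144, true), (252, false)], 16, 1⟩,
  ⟨11, 5, 1, [(21, false), (120, false), (252, false), (320, true)], 72, -1⟩,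
  ⟨11, 5, 1, [(21, false), (120, false), (120, false), (320, true)], 60, 1⟩,
  ⟨11, 5, 1, [(21, false), (56, true), (320, true), (384, false)], 28, -1⟩,
  ⟨11, 5, 1, [(21, false), (56, true), (210, true), (252, false)], 6, -1⟩,
  ⟨11, 5, 1, [(21, false), (56, true), (144, true), (252, false)], 72, -1⟩,
  ⟨11, 5, 1, [(21, false), (56, true), (120, false), (144, true)], 60, 1⟩,
  ⟨11, 5, 1, [(21, false), (56, true), (56, true), (252, false)], 160, -1⟩,
  ⟨11, 5, 1, [(21, false), (56, true), (56, true), (120, false)], 28, -1⟩,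
  ⟨11, 5, 1, [(21, false), (32, false), (252, false), (320, true)], 16, 1⟩,
  ⟨11, 5, 1, [(21, false), (32, false), (144, true), (252, false)], 160, -1⟩,
  ⟨11, 5, 1, [(21, false), (32, false), (120, false), (144, true)], 28, -1⟩,
  ⟨11, 5, 1, [(21, false), (32, false), (32, false), (144, true)], 60, 1⟩,
  ⟨11, 5, 1, [(21, false), (32, false), (32, false), (56, true)], 28, -1⟩,
  ⟨11, 5, 1, [(21, false), (21, false), (32, false), (45, true)], 28, -1⟩,
  ⟨11, 5, 1, [(12, true), (56, true), (320, true), (384, false)], 5, 1⟩,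
  ⟨11, 5, 1, [(12, true), (56, true), (210, true), (384, false)], 105, -1⟩,
  ⟨11, 5, 1, [(12, true), (45, true), (320, true), (384, false)], 6, -1⟩,
  ⟨11, 5, 1, [(12, true), (45, true), (252, false), (320, true)], 126, 1⟩,
  ⟨11, 5, 1, [(12, true), (45, true), (210, true), (252, false)], 16, 1⟩,
  ⟨11, 5, 1, [(12, true), (45, true), (56, true), (120, false)], 6, -1⟩,
  ⟨11, 5, 1, [(12, true), (32, false), (32, false), (56, true)], 5, 1⟩,
  ⟨11, 5, 1, [(12, true), (32, false), (32, false), (45, true)], 6, -1⟩,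
  ⟨11, 5, 1, [(12, true), (21, false), (320, true), (384, false)], 72, -1⟩,
  ⟨11, 5, 1, [(12, true), (21, false), (252, false), (320, true)], 60, 1⟩,
  ⟨11, 5, 1, [(12, true), (21, false), (144, true), (144, true)], 280, 1⟩,
  ⟨11, 5, 1, [(12, true), (21, false), (120, false), (320, true)], 192, 1⟩,
  ⟨11, 5, 1, [(12, true), (21, false), (120, false), (144, true)], 16, 1⟩,
  ⟨11, 5, 1, [(12, true), (21, false), (56, true), (384, false)], 336, -1⟩,
  ⟨11, 5, 1, [(12, true), (21, false), (56, true), (144, true)], 192, 1⟩,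
  ⟨11, 5, 1, [(12, true), (21, false), (56, true), (120, false)], 72, -1⟩,
  ⟨11, 5, 1, [(12, true), (21, false), (32, false), (320, true)], 280, 1⟩,
  ⟨11, 5, 1, [(12, true), (21, false), (32, false), (120, false)], 160, -1⟩,
  ⟨11, 5, 1, [(12, true), (21, false), (32, false), (56, true)], 16, 1⟩,
  ⟨11, 5, 1, [(12, true), (21, false), (32, false), (32, false)], 72, -1⟩,
  ⟨11, 5, 1, [(12, true), (21, false), (21, false), (45, true)], 16, 1⟩,
  ⟨11, 5, 1, [(12, true), (12, true), (45, true), (210, true)], 280, 1⟩,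
  ⟨11, 5, 1, [(12, true), (12, true), (45, true), (56, true)], 126, 1⟩,
  ⟨11, 5, 1, [(12, true), (12, true), (21, false), (56, true)], 60, 1⟩,
  ⟨11, 5, 1, [(12, true), (12, true), (21, false), (32, false)], 28, -1⟩,
  ⟨11, 5, 1, [(12, true), (12, true), (12, true), (32, false)], 5, 1⟩,
  ⟨11, 5, 1, [(12, true), (12, true), (12, true), (21, false)], 16, 1⟩,
  ⟨11, 5, 1, [(10, false), (144, true), (144, true), (384, false)], 105, -1⟩,
  ⟨11, 5, 1, [(10, false), (56, true), (210, true), (252, false)], 5, 1⟩,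
  ⟨11, 5, 1, [(10, false), (45, true), (320, true), (384, false)], 28, -1⟩,
  ⟨11, 5, 1, [(10, false), (45, true), (210, true), (252, false)], 6, -1⟩,
  ⟨11, 5, 1, [(10, false), (45, true), (144, true), (252, false)], 72, -1⟩,
  ⟨11, 5, 1, [(10, false), (45, true), (120, false), (252, false)], 336, -1⟩,
  ⟨11, 5, 1, [(10, false), (45, true), (56, true), (252, false)], 160, -1⟩,
  ⟨11, 5, 1, [(10, false), (45, true), (56, true), (120, false)], 28, -1⟩,
  ⟨11, 5, 1, [(10, false), (32, false), (320, true), (384, false)], 105, -1⟩,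
  ⟨11, 5, 1, [(10, false), (32, false), (32, false), (45, true)], 28, -1⟩,
  ⟨11, 5, 1, [(10, false), (32, false), (32, false), (32, false)], 105, -1⟩,
  ⟨11, 5, 1, [(10, false), (21, false), (210, true), (252, false)], 72, -1⟩,
  ⟨11, 5, 1, [(10, false), (21, false), (120, false), (210, true)], 60, 1⟩,
  ⟨11, 5, 1, [(10, false), (21, false), (120, false), (144, true)], 6, -1⟩,
  ⟨11, 5, 1, [(10, false), (21, false), (32, false), (56, true)], 6, -1⟩,
  ⟨11, 5, 1, [(10, false), (21, false), (21, false), (56, true)], 5, 1⟩,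
  ⟨11, 5, 1, [(10, false), (21, false), (21, false), (45, true)], 6, -1⟩,
  ⟨11, 5, 1, [(10, false), (21, false), (21, false), (21, false)], 72, -1⟩,
  ⟨11, 5, 1, [(10, false), (12, true), (144, true), (252, false)], 105, -1⟩,
  ⟨11, 5, 1, [(10, false), (12, true), (45, true), (384, false)], 336, -1⟩,
  ⟨11, 5, 1, [(10, false), (12, true), (45, true), (144, true)], 192, 1⟩,
  ⟨11, 5, 1, [(10, false), (12, true), (32, false), (45, true)], 16, 1⟩,
  ⟨11, 5, 1, [(10, false), (12, true), (21, false), (210, true)], 192, 1⟩,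
  ⟨11, 5, 1, [(10, false), (12, true), (21, false), (144, true)], 126, 1⟩,
  ⟨11, 5, 1, [(10, false), (12, true), (12, true), (21, false)], 6, -1⟩,
  ⟨11, 5, 1, [(10, false), (10, false), (32, false), (45, true)], 6, -1⟩,
  ⟨11, 5, 1, [(10, false), (10, false), (21, false), (320, true)], 280, 1⟩,
  ⟨11, 5, 1, [(10, false), (10, false), (21, false), (120, false)], 160, -1⟩,
  ⟨11, 5, 1, [(10, false), (10, false), (21, false), (56, true)], 16, 1⟩,
  ⟨11, 5, 1, [(10, false), (10, false), (21, false), (45, true)], 5, 1⟩,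
  ⟨11, 5, 1, [(10, false), (10, false), (21, false), (32, false)], 72, -1⟩,
  ⟨11, 5, 1, [(10, false), (10, false), (12, true), (21, false)], 28, -1⟩]

theorem check_rows : ((rowsOf 11 5 1 fun _ => true).all fun A =>
    liveEleven.contains A || deadEleven.contains A) = true := by
  decide +kernel

end CfsgLib.Recog.OrderM22
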