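import Cfsg.Agent.Lib.Recog.OrderM22.Lists

/-!
# Simple groups of order 443520: the pairs of rows at eleven and seven, part 2
-/

set_option autoImplicit false
set_option maxRecDepth 100000
set_option Elab.async false

namespace CfsgLib.Recog.OrderM22

theorem check_seven_10 :
    (((liveEleven.drop 10).take 1).all (stepOK 7 liveSeven)) = true := by
  decide +kernel

theorem check_seven_11 :
    (((liveEleven.drop 11).take 1).all (stepOK 7 liveSeven)) = true := by
  decide +kernel

theorem check_seven_12 :
    (((liveEleven.drop 12).take 1).all (stepOK 7 liveSeven)) = true := by
  decide +kernel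

theorem check_seven_13 :
    (((liveEleven.drop 13).take 1).all (stepOK 7 liveSeven)) = true := by
  decide +kernel

theorem check_seven_14 :
    (((liveEleven.drop 14).take 1).all (stepOK 7 liveSeven)) = true := by
  decide +kernel

theorem check_seven_15 :
    (((liveEleven.drop 15).take 1).all (stepOK 7 liveSeven)) = true := by
  decide +kernel

theorem check_seven_16 :
    (((liveEleven.drop 16).take 1).all (stepOK 7 liveSeven)) = true := by
  decide +kernel

theorem check_seven_17 :
    (((liveEleven.drop 17).take 1).all (stepOK 7 liveSeven)) = true := by
  decide +kernel

theorem check_seven_18 :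
    (((liveEleven.drop 18).take 1).all (stepOK 7 liveSeven)) = true := by
  decide +kernel

theorem check_seven_19 :
    (((liveEleven.drop 19).take 1).all (stepOK 7 liveSeven)) = true := by
  decide +kernel

end CfsgLib.Recog.OrderM22
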