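import Cfsg.Agent.Lib.Recog.OrderM22.Lists

/-!
# Simple groups of order 443520: the pairs of rows at eleven and seven, part 3
-/

set_option autoImplicit false
set_option maxRecDepth 100000
set_option Elab.async false

namespace CfsgLib.Recog.OrderM22

theorem check_seven_20 :
    (((liveEleven.drop 20).take 1).all (stepOK 7 liveSeven)) = true := by
  decide +kernel

theorem check_seven_21 :
    (((liveEleven.drop 21).take 1).all (stepOK 7 liveSeven)) = true := by
  decide +kernel

theorem check_seven_22 :
    (((liveEleven.drop 22).take 1).all (stepOK 7 liveSeven)) = true := by
  decide +kernel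

theorem check_seven_23 :
    (((liveEleven.drop 23).take 1).all (stepOK 7 liveSeven)) = true := by
  decide +kernel

theorem check_seven_24 :
    (((liveEleven.drop 24).take 1).all (stepOK 7 liveSeven)) = true := by
  decide +kernel

theorem check_seven_25 :
    (((liveEleven.drop 25).take 1).all (stepOK 7 liveSeven)) = true := by
  decide +kernel

theorem check_seven_26 :
    (((liveEleven.drop 26).take 1).all (stepOK 7 liveSeven)) = true := by
  decide +kernel

theorem check_seven_27 :
    (((liveEleven.drop 27).take 1).all (stepOK 7 liveSeven)) = true := by
  decide +kernel

theorem check_seven_28 :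
    (((liveEleven.drop 28).take 1).all (stepOK 7 liveSeven)) = true := by
  decide +kernel

theorem check_seven_29 :
    (((liveEleven.drop 29).take 1).all (stepOK 7 liveSeven)) = true := by
  decide +kernel

end CfsgLib.Recog.OrderM22
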