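import Cfsg.Agent.Lib.Recog.OrderM22.RowDfs

/-!
# Simple groups of order 443520: an element of order eleven is self-centralising
-/

set_option autoImplicit false
set_option maxHeartbeats 1000000
set_option maxRecDepth 100000

namespace CfsgLib.Recog.OrderM22

open Cfsg CfsgLib CfsgLib.Block CfsgLib.ClassK CfsgLib.ClassK.RowSieve CfsgLib.ClassK.RowInvolution

universe u

/-- The proper divisors of 20160. -/
def halfDivs : List ℕ :=
  [1, 2, 3, 4, 5, 6, 7, 8, 9, 10, 12, 14, 15, 16, 18, 20, 21, 24, 28, 30, 32, 35, 36, 40, 42, 45, 48, 56,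
    60, 63, 64, 70, 72, 80, 84, 90, 96, 105, 112, 120, 126, 140, 144, 160, 168, 180, 192, 210, 224, 240,
    252, 280, 288, 315, 320, 336, 360, 420, 448, 480, 504, 560, 576, 630, 672, 720, 840, 960, 1008, 1120,
    1260, 1344, 1440, 1680, 2016, 2240, 2520, 2880, 3360, 4032, 5040, 6720, 10080]

theorem halfDivs_check : ((List.range 140).all fun a => (List.range 144).all fun b =>
    !decide (20160 % (144 * a + b) = 0) || halfDivs.contains (144 * a + b)) = true := by decide +kernel

theorem mem_halfDivs {m : ℕ} (hm : m < 20160) (hd : 20160 % m = 0) : m ∈ halfDivs := by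
  have h := List.all_eq_true.1 (List.all_eq_true.1 halfDivs_check (m / 144) (List.mem_range.2 (by omega)))
    (m % 144) (List.mem_range.2 (by omega))
  rw [Nat.div_add_mod] at h
  simpa [hd] using h

/-- The Sylow counts and automiser orders with a centraliser of even order. -/
def evenConfigs : List (ℕ × ℕ) :=
  [(12, 2), (45, 2), (56, 2), (144, 2), (210, 2), (672, 2), (2520, 2), (12, 5), (56, 5), (144, 5), (672, 5),
    (12, 10), (56, 10), (144, 10), (672, 10)]

theorem config_cases : ∀ i < 1833, ∀ e ∈ [2, 5, 10], 40320 % ((1 + (i + 1) * 11) * e) = 0 →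
    (1 + (i + 1) * 11 = 8064 ∧ e = 5) ∨ (1 + (i + 1) * 11 = 320 ∧ e = 2) ∨
      ((1 + (i + 1) * 11, e) ∈ evenConfigs ∧ 40320 / ((1 + (i + 1) * 11) * e) % 2 = 0) := by
  decide +kernel

theorem even_check : (evenConfigs.all fun a => halfDivs.all fun m =>
    !rowsAt 443520 a.1 a.2 11 666 (22 * m)) = true := by
  decide +kernel

theorem rows_320_check : RowSieve.rowPossible 443520 11 666
    (fun np e => decide (np = 320) && decide (e = 2)) (fun _ => true) (fun _ => true) = false := by
  decide +kernel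

variable {G : Type u} [Group G] [Finite G] [IsSimpleGroup G]

theorem not_comm (h : Nat.card G = 443520) : ¬ IsMulCommutative G := fun hc => by
  let : CommGroup G := { (inferInstance : Group G) with mul_comm := hc.is_comm.comm }
  have := IsSimpleGroup.prime_card (α := G)
  rw [h] at this
  norm_num at this

/-- The configuration at the prime eleven. -/
theorem config11 [Fact (Nat.Prime 11)] (h : Nat.card G = 443520) (P : Sylow 11 G) :
    Nat.card (Sylow 11 G) = 8064 ∧
      (Subgroup.centralizer ((P : Subgroup G) : Set G)).relIndex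
        (Subgroup.normalizer ((P : Subgroup G) : Set G)) = 5 ∧
      Nat.card (Subgroup.centralizer ((P : Subgroup G) : Set G)) = 11 := by
  classical
  have hG := not_comm h
  have hP : Nat.card P = 11 :=
    CfsgLib.Transfer.card_sylow_eq_prime P (by rw [h]; norm_num) (by rw [h]; norm_num)
  set np := Nat.card (Sylow 11 G) with hnp
  set e := (Subgroup.centralizer ((P : Subgroup G) : Set G)).relIndex
    (Subgroup.normalizer ((P : Subgroup G) : Set G)) with he
  set C := Subgroup.centralizer ((P : Subgroup G) : Set G) with hC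
  have hcfg : np * (e * Nat.card C) = 443520 := by rw [← h]; exact card_config P
  obtain ⟨hnp1, hnpm, -, -, -⟩ :=
    count_not_excluded (p := 11) (a := 1) hG one_pos (by rw [h]; norm_num) (by rw [h]; norm_num)
  rw [← hnp] at hnp1 hnpm
  obtain ⟨M, hM⟩ := BlockB.exists_isPModular (p := 11) Fact.out
  have := isPrime_of_pmodular hM
  obtain ⟨e', t, d₀, σ, CF, YF, ε, D⟩ :=
    exists_rows (CfsgLib.Transfer.commutator_eq_top_of_simple hG) hM P hP
  have hee : e' = e := D.e_eq.symm
  rw [hee] at D
  have he2 := D.e_two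
  have hte := D.hte
  have hemem : e ∈ [2, 5, 10] := by
    have hd : e ∣ 10 := ⟨t, by rw [mul_comm]; omega⟩
    have := Nat.le_of_dvd (by norm_num) hd
    interval_cases e <;> first | decide | (exfalso; revert hd; decide)
  obtain ⟨x, hx, hx1⟩ : ∃ x ∈ (P : Subgroup G), x ≠ 1 := by
    refine Subgroup.bot_or_exists_ne_one _ |>.resolve_left fun h' => ?_
    rw [h', Subgroup.card_bot] at hP
    norm_num at hP
  have hPC : (P : Subgroup G) ≤ C := by
    have : IsCyclic (P : Subgroup G) := isCyclic_of_prime_card hP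
    intro a ha
    exact Subgroup.mem_centralizer_iff.2 fun b hb => congrArg Subtype.val
      ((IsCyclic.commGroup (α := (P : Subgroup G))).mul_comm ⟨b, hb⟩ ⟨a, ha⟩)
  obtain ⟨w, hw⟩ : 11 ∣ Nat.card C := hP ▸ Subgroup.card_dvd_of_le hPC
  have hcfg' : np * e * w = 40320 := by
    rw [hw] at hcfg
    have h' : 11 * (np * e * w) = 11 * 40320 := by rw [← show np * (e * (11 * w)) = 11 * (np * e * w) by ring, hcfg]
    omega
  obtain ⟨i, hi⟩ : ∃ i, np = 1 + (i + 1) * 11 := ⟨np / 11 - 1, by omega⟩
  have hilt : i < 1833 := by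
    by_contra hge
    have h1 : 2 * np ≤ 40320 := by
      calc 2 * np ≤ np * e := by rw [mul_comm 2]; exact Nat.mul_le_mul_left _ he2
        _ ≤ 40320 := Nat.le_of_dvd (by norm_num) ⟨w, hcfg'.symm⟩
    omega
  have hdvd : 40320 % (np * e) = 0 := Nat.mod_eq_zero_of_dvd ⟨w, hcfg'.symm⟩
  have hwq : 40320 / (np * e) = w := by
    rw [← hcfg', Nat.mul_div_cancel_left _ (Nat.pos_of_ne_zero fun h0 => by
      rw [h0, zero_mul] at hcfg'; norm_num at hcfg')]
  rcases config_cases i hilt e hemem (hi ▸ hdvd) with ⟨h1, h2⟩ | ⟨h1, h2⟩ | ⟨hmem, heven⟩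
  · rw [← hi] at h1
    refine ⟨h1, h2, ?_⟩
    rw [h1, h2] at hcfg'
    omega
  · rw [← hi] at h1
    refine (false_of_rowPossible' (p := 11) hG h (B := 666) (by norm_num) (by norm_num) (by norm_num)
      _ (fun Q => ?_) (fun _ => true) (fun _ _ => rfl) rows_320_check).elim
    have hQ : (Subgroup.centralizer ((Q : Subgroup G) : Set G)).relIndex
        (Subgroup.normalizer ((Q : Subgroup G) : Set G)) = e := by
      have := Fintype.ofFinite G
      have hQ' := card_config Q
      obtain ⟨g, rfl⟩ := MulAction.exists_smul_eq G P Q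
      have hgx : g * x * g⁻¹ ∈ ((g • P : Sylow 11 G) : Subgroup G) := by
        rw [Sylow.coe_subgroup_smul]; exact ⟨x, hx, rfl⟩
      have hc : Nat.card (Subgroup.centralizer (((g • P : Sylow 11 G) : Subgroup G) : Set G)) =
          Nat.card C := by
        rw [← BrauerReynolds.centralizer_mem_eq (g • P) (by
            rw [CfsgLib.Transfer.card_sylow_eq_prime (g • P) (by rw [h]; norm_num)
              (by rw [h]; norm_num)]) hgx (fun h' => hx1 (by simpa using h')),
          CfsgLib.Transfer.card_centralizer_conj, BrauerReynolds.centralizer_mem_eq P hP hx hx1]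
      rw [hc, ← hnp, h] at hQ'
      exact Nat.eq_of_mul_eq_mul_right Nat.card_pos
        (Nat.eq_of_mul_eq_mul_left (by omega) (hQ'.trans hcfg.symm))
    rw [hQ, ← hnp, h1, h2]
    decide
  exfalso
  rw [← hi] at hmem heven
  rw [hwq] at heven
  have : Fact (Nat.Prime 2) := ⟨Nat.prime_two⟩
  obtain ⟨⟨k, hkC⟩, hk⟩ := exists_prime_orderOf_dvd_card' (G := C) 2
    (hw ▸ dvd_mul_of_dvd_right (Nat.dvd_of_mod_eq_zero heven) 11)
  rw [Subgroup.orderOf_mk] at hk
  have hrows := rowsAt_of_invol hG h (B := 666) (by norm_num) P hP (by norm_num) hk hkC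
  set Ck := Subgroup.centralizer ({k} : Set G) with hCk
  have hxk : x ∈ Ck := Subgroup.mem_centralizer_singleton_iff.2
    (Subgroup.mem_centralizer_iff.1 hkC x hx)
  have hkk : k ∈ Ck := Subgroup.mem_centralizer_singleton_iff.2 rfl
  have hx11 : orderOf x = 11 := by
    have hd := Subgroup.orderOf_dvd_natCard (P : Subgroup G) hx
    rw [hP] at hd
    exact ((Nat.dvd_prime Fact.out).1 hd).resolve_left fun h' => hx1 (orderOf_eq_one_iff.1 h')
  have h22 : 22 ∣ Nat.card Ck := Nat.Coprime.mul_dvd_of_dvd_of_dvd (m := 2) (n := 11) (by norm_num)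
    (hk ▸ Subgroup.orderOf_dvd_natCard Ck hkk) (hx11 ▸ Subgroup.orderOf_dvd_natCard Ck hxk)
  obtain ⟨m, hm⟩ := h22
  have hmd : m ∣ 20160 := by
    have hd := Subgroup.card_subgroup_dvd_card Ck
    rw [h, hm, show (443520 : ℕ) = 22 * 20160 by norm_num] at hd
    exact Nat.dvd_of_mul_dvd_mul_left (by norm_num) hd
  have hm_lt : m < 20160 := by
    refine lt_of_le_of_ne (Nat.le_of_dvd (by norm_num) hmd) fun hm' => ?_
    have htop : Ck = ⊤ := Subgroup.eq_top_of_card_eq _ (by rw [hm, hm', h])
    rcases IsSimpleGroup.eq_bot_or_eq_top_of_normal (Subgroup.center G) inferInstance with hc | hc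
    · have hk1 : k ∈ Subgroup.center G := Subgroup.mem_center_iff.2 fun g =>
        Subgroup.mem_centralizer_singleton_iff.1 (htop.ge (Subgroup.mem_top g))
      rw [hc, Subgroup.mem_bot] at hk1
      rw [hk1, orderOf_one] at hk
      norm_num at hk
    · exact hG ⟨⟨fun a b => Subgroup.mem_center_iff.1 (hc.ge (Subgroup.mem_top b)) a⟩⟩
  have hchk := List.all_eq_true.1 (List.all_eq_true.1 even_check _ hmem) m
    (mem_halfDivs hm_lt (Nat.mod_eq_zero_of_dvd hmd))
  rw [hm] at hrows
  simp only [Bool.not_eq_true'] at hchk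
  rw [← hnp, ← he] at hrows
  simp_all

end CfsgLib.Recog.OrderM22
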