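import Cfsg.Agent.Lib.Recog.OrderM22.Table
import Cfsg.Agent.Lib.Recog.OrderM12.Values
import Cfsg.Agent.Lib.ClassK.M22Nse.Orders
import Cfsg.Agent.Lib.BlockA.InvolutionFS
import Cfsg.Agent.Lib.BlockB.GaloisAvg

/-!
# From the known part of the character table to the numbers of elements of each order

The rational values at elements of order coprime to 385 are pinned down by orthogonality, the
Frobenius-Schur count gives the numbers of square roots, and a count of classes finishes.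
-/

set_option autoImplicit false
set_option linter.unusedSectionVars false

namespace CfsgLib.Recog.OrderM22

open Cfsg CfsgLib Subgroup CfsgLib.StructB.OrderCount
open scoped ComplexConjugate

universe u

/-- The characters outside the two pairs of equal degree. -/
def realIdx (i : Fin 12) : Bool := i != 2 && i != 3 && i != 9 && i != 10

theorem same_deg : ∀ i j : Fin 12, degs j = degs i →
    j = i ∨ (i = 2 ∧ j = 3) ∨ (i = 3 ∧ j = 2) ∨ (i = 9 ∧ j = 10) ∨ (i = 10 ∧ j = 9) := by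
  decide

theorem sum_twelve {M : Type*} [AddCommMonoid M] (f : Fin 12 → M) :
    ∑ i, f i = f 0 + f 1 + f 2 + f 3 + f 4 + f 5 + f 6 + f 7 + f 8 + f 9 + f 10 + f 11 := by
  simp [Fin.sum_univ_succ, add_assoc]

section Search

/-- An interval of integers. -/
def rng (lo : ℤ) (n : ℕ) : List ℤ := (List.range n).map fun i : ℕ => lo + (i : ℤ)

theorem mem_rng {lo x : ℤ} {n : ℕ} (h1 : lo ≤ x) (h2 : x < lo + n) : x ∈ rng lo n :=
  List.mem_map.2 ⟨(x - lo).toNat, List.mem_range.2 (by omega), by omega⟩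

/-- The squared norm of the column with parameters `a b e f`. -/
def nrm (a b e f : ℤ) : ℤ :=
  1 + (1 + 2 * a + f - e) ^ 2 + 2 * a ^ 2 + (1 + b - a) ^ 2 + b ^ 2 + (a + e - b) ^ 2 + f ^ 2 +
    (-2 - a - f + 2 * e) ^ 2 + 2 * e ^ 2 + (1 - 3 * e) ^ 2

/-- The degrees divide the multiples by `k` of the values. -/
def divOK (k a b e f : ℤ) : Bool :=
  decide (21 ∣ k * (1 + 2 * a + f - e)) && decide (45 ∣ k * a) &&
    decide (55 ∣ k * (1 + b - a)) && decide (99 ∣ k * b) && decide (154 ∣ k * (a + e - b)) &&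
    decide (210 ∣ k * f) && decide (231 ∣ k * (-2 - a - f + 2 * e)) && decide (280 ∣ k * e) &&
    decide (385 ∣ k * (1 - 3 * e))

/-- The two surviving columns. -/
def goodCol (c : ℕ) (a b e f : ℤ) : Bool :=
  a == 0 && b == 0 && e == 1 && ((c == 9 && f == 0) || (c == 36 && f == 3))

/-- Leaf test. -/
def leafOK (c : ℕ) (a b e f : ℤ) : Bool :=
  !(nrm a b e f == (c : ℤ)) || decide (2 + a + b + f - e < 1) ||
    !divOK ((443520 / c : ℕ) : ℤ) a b e f || goodCol c a b e f

/-- The pruned search. -/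
def srch (c : ℕ) : Bool :=
  (rng (-4) 8).all fun ke =>
    let e := 3 * ke + 1
    decide ((c : ℤ) < 2 * e ^ 2 + (1 - 3 * e) ^ 2) ||
    (rng (-8) 17).all fun ka =>
      let a := 3 * ka
      decide ((c : ℤ) < 2 * a ^ 2) ||
      (rng (-11) 23).all fun kb =>
        let b := 3 * kb
        decide ((c : ℤ) < b ^ 2 + (1 + b - a) ^ 2 + (a + e - b) ^ 2 + 2 * a ^ 2 + 2 * e ^ 2 +
          (1 - 3 * e) ^ 2) ||
        (rng (-11) 23).all fun kf => leafOK c a b e (3 * kf)

theorem srch_ok : ([9, 18, 36, 72, 144, 288, 576, 1152] : List ℕ).all srch = true := by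
  decide +kernel

theorem cand_list : ∀ c : ℕ, c ∈ Nat.divisors 1152 → 9 ∣ c →
    c ∈ ([9, 18, 36, 72, 144, 288, 576, 1152] : List ℕ) := by
  decide +kernel

theorem bounds {C ka kb ke kf : ℤ} (hC : C ≤ 1152)
    (hn : nrm (3 * ka) (3 * kb) (3 * ke + 1) (3 * kf) = C) :
    (2 * (3 * ke + 1) ^ 2 + (1 - 3 * (3 * ke + 1)) ^ 2 ≤ C ∧ -4 ≤ ke ∧ ke < -4 + ((8 : ℕ) : ℤ)) ∧
    (2 * (3 * ka) ^ 2 ≤ C ∧ -8 ≤ ka ∧ ka < -8 + ((17 : ℕ) : ℤ)) ∧
    ((3 * kb) ^ 2 + (1 + 3 * kb - 3 * ka) ^ 2 + (3 * ka + (3 * ke + 1) - 3 * kb) ^ 2 +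
      2 * (3 * ka) ^ 2 + 2 * (3 * ke + 1) ^ 2 + (1 - 3 * (3 * ke + 1)) ^ 2 ≤ C ∧
        -11 ≤ kb ∧ kb < -11 + ((23 : ℕ) : ℤ)) ∧
    -11 ≤ kf ∧ kf < -11 + ((23 : ℕ) : ℤ) := by
  unfold nrm at hn
  have s1 := sq_nonneg (1 + 2 * (3 * ka) + 3 * kf - (3 * ke + 1))
  have s4 := sq_nonneg (1 + 3 * kb - 3 * ka)
  have s5 := sq_nonneg (3 * kb)
  have s6 := sq_nonneg (3 * ka + (3 * ke + 1) - 3 * kb)
  have s7 := sq_nonneg (3 * kf)
  have s8 := sq_nonneg (-2 - 3 * ka - 3 * kf + 2 * (3 * ke + 1))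
  have s9 := sq_nonneg (3 * ke + 1)
  have s11 := sq_nonneg (1 - 3 * (3 * ke + 1))
  have s2 := sq_nonneg (3 * ka)
  have he : 2 * (3 * ke + 1) ^ 2 + (1 - 3 * (3 * ke + 1)) ^ 2 ≤ C := by linarith
  have ha : 2 * (3 * ka) ^ 2 ≤ C := by linarith
  have hb : (3 * kb) ^ 2 ≤ C := by linarith
  have hf : (3 * kf) ^ 2 ≤ C := by linarith
  refine ⟨⟨he, ?_, ?_⟩, ⟨ha, ?_, ?_⟩, ⟨by linarith, ?_, ?_⟩, ?_, ?_⟩ <;>
    norm_num <;> by_contra hlt <;> nlinarith

theorem solve_col {c : ℕ} {a b e f : ℤ} (hc9 : 9 ∣ c) (hc : c ∣ 1152) (ha : 3 ∣ a) (hb : 3 ∣ b)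
    (he : 3 ∣ e - 1) (hf : 3 ∣ f) (hn : nrm a b e f = c) (hR : 1 ≤ 2 + a + b + f - e)
    (hd : divOK ((443520 / c : ℕ) : ℤ) a b e f = true) :
    a = 0 ∧ b = 0 ∧ e = 1 ∧ (c = 9 ∧ f = 0 ∨ c = 36 ∧ f = 3) := by
  have hc2 : c ≤ 1152 := Nat.le_of_dvd (by norm_num) hc
  have hs := List.all_eq_true.1 srch_ok c
    (cand_list c (Nat.mem_divisors.2 ⟨hc, by norm_num⟩) hc9)
  obtain ⟨ka, rfl⟩ := ha
  obtain ⟨kb, rfl⟩ := hb
  obtain ⟨kf, rfl⟩ := hf
  obtain ⟨ke, hke⟩ := he
  obtain rfl : e = 3 * ke + 1 := by omega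
  have hc2' : (c : ℤ) ≤ 1152 := by exact_mod_cast hc2
  obtain ⟨⟨he2, bel, beu⟩, ⟨ha2, bal, bau⟩, ⟨hb2, bbl, bbu⟩, bfl, bfu⟩ :=
    bounds (ka := ka) (kb := kb) (ke := ke) (kf := kf) hc2' hn
  unfold srch at hs
  have h1 := List.all_eq_true.1 hs ke (mem_rng bel beu)
  simp only [Bool.or_eq_true, decide_eq_true_eq, not_lt.2 he2, false_or] at h1
  have h2 := List.all_eq_true.1 h1 ka (mem_rng bal bau)
  simp only [Bool.or_eq_true, decide_eq_true_eq, not_lt.2 ha2, false_or] at h2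
  have h3 := List.all_eq_true.1 h2 kb (mem_rng bbl bbu)
  simp only [Bool.or_eq_true, decide_eq_true_eq, not_lt.2 hb2, false_or] at h3
  have h4 := List.all_eq_true.1 h3 kf (mem_rng bfl bfu)
  simp only [leafOK, goodCol, hd, hn, beq_self_eq_true, Bool.not_true, Bool.false_or,
    Bool.or_eq_true, Bool.and_eq_true, decide_eq_true_eq, not_lt.2 hR, Bool.false_eq_true,
    beq_iff_eq, or_false, false_or, and_assoc] at h4
  exact h4

end Search

namespace Table

variable {G : Type u} [Group G] [Finite G] (T : Table G)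
include T

/-- The irreducible characters, numbered. -/
noncomputable def equiv : Fin 12 ≃ IrrCharacter G := Equiv.ofBijective T.χ T.bij

theorem sum_irr [Fintype (IrrCharacter G)] {M : Type*} [AddCommMonoid M]
    (f : IrrCharacter G → M) : ∑ φ, f φ = ∑ i, f (T.χ i) :=
  (T.equiv.sum_comp f).symm

theorem deg_apply (i : Fin 12) : (T.χ i : G → ℂ) 1 = (degs i : ℂ) := by
  rw [← BlockB.irr_degree_cast, T.deg]

open scoped _root_.Classical in
theorem col (g h : G) : ∑ i, (T.χ i : G → ℂ) g * conj ((T.χ i : G → ℂ) h) =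
    if IsConj g h then (Nat.card (centralizer ({g} : Set G)) : ℂ) else 0 := by
  have := Fintype.ofFinite G
  have := Fintype.ofFinite (IrrCharacter G)
  rw [← T.sum_irr fun φ : IrrCharacter G => (φ : G → ℂ) g * conj ((φ : G → ℂ) h)]
  exact Char.column_orthogonality g h

theorem exists_same (φ : IrrCharacter G) {i : Fin 12} (h : (φ : G → ℂ) 1 = (degs i : ℂ)) :
    ∃ j, T.χ j = φ ∧ degs j = degs i := by
  obtain ⟨j, rfl⟩ := T.bij.surjective φ
  rw [T.deg_apply] at h
  exact ⟨j, rfl, by exact_mod_cast h⟩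

/-! ### Elements of order divisible by 5, 7 or 11 -/

omit T in
theorem cent_eq {p e : ℕ} [hp : Fact p.Prime] (hS : SelfCent G p e) {x : G}
    (hx : orderOf x = p) :
    Nat.card (centralizer ({x} : Set G)) = p ∧
      Nat.card (normalizer (zpowers x : Set G)) = p * e := by
  obtain ⟨P, hP⟩ := (IsPGroup.of_card (G := zpowers x) (p := p) (n := 1)
    (by rw [Nat.card_zpowers, hx, pow_one])).exists_le_sylow
  obtain ⟨hc, hcc, hi⟩ := hS P
  have hPx : zpowers x = (P : Subgroup G) :=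
    eq_of_le_of_card_ge hP (by rw [hc, Nat.card_zpowers, hx])
  have hz : centralizer ({x} : Set G) = centralizer ((P : Subgroup G) : Set G) := by
    rw [← hPx, zpowers_eq_closure, centralizer_closure]
  refine ⟨by rw [hz, hcc], ?_⟩
  rw [hPx]
  have hle : centralizer ((P : Subgroup G) : Set G) ≤ normalizer ((P : Subgroup G) : Set G) :=
    centralizer_le_normalizer _
  have hm := ((centralizer ((P : Subgroup G) : Set G)).subgroupOf
    (normalizer ((P : Subgroup G) : Set G))).card_mul_index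
  rw [Nat.card_congr (subgroupOfEquivOfLe hle).toEquiv, hcc] at hm
  rw [relIndex] at hi
  rw [hi] at hm
  exact hm.symm

omit T in
theorem order_eq {p e : ℕ} [hp : Fact p.Prime] (hS : SelfCent G p e) {g : G}
    (hg : p ∣ orderOf g) : orderOf g = p := by
  have hx : orderOf (g ^ (orderOf g / p)) = p := orderOf_pow_orderOf_div (orderOf_pos g).ne' hg
  have hd : orderOf g ∣ Nat.card (centralizer ({g ^ (orderOf g / p)} : Set G)) :=
    Subgroup.orderOf_dvd_natCard _
      (mem_centralizer_singleton_iff.2 (Commute.self_pow g _).eq)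
  rw [(cent_eq hS hx).1] at hd
  exact Nat.dvd_antisymm hd hg

omit T in
theorem not_conj_inv {p e : ℕ} [hp : Fact p.Prime] (hS : SelfCent G p e) (h2 : p ≠ 2)
    (hodd : Odd (p * e)) {x : G} (hx : orderOf x = p) : ¬ IsConj x x⁻¹ := by
  intro h
  obtain ⟨c, hc⟩ := isConj_iff.1 h
  have hcN : c ∈ normalizer (zpowers x : Set G) := by
    refine mem_normalizer_fintype ?_
    rintro s hs
    obtain ⟨k, rfl⟩ := mem_zpowers_iff.1 hs
    rw [← conj_zpow, hc]
    exact zpow_mem (inv_mem (mem_zpowers x)) k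
  have hd : orderOf c ∣ p * e := (cent_eq hS hx).2 ▸ Subgroup.orderOf_dvd_natCard _ hcN
  obtain ⟨m, hm⟩ := hodd.of_dvd_nat hd
  have hsq : c ^ 2 * x = x * c ^ 2 := by
    have h1 : c * x⁻¹ * c⁻¹ = x := by rw [← conj_inv, hc, inv_inv]
    calc c ^ 2 * x = c * (c * x * c⁻¹) * c := by rw [pow_two]; group
      _ = c * x⁻¹ * c⁻¹ * c ^ 2 := by rw [hc]; group
      _ = x * c ^ 2 := by rw [h1]
  have hcx : c * x = x * c := by
    have : c = (c ^ 2) ^ (m + 1) := by
      rw [← pow_mul, show 2 * (m + 1) = orderOf c + 1 by omega, pow_add, pow_orderOf_eq_one,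
        one_mul, pow_one]
    rw [this]
    exact (Commute.pow_left hsq _).eq
  rw [hcx, mul_inv_cancel_right] at hc
  have h3 : x ^ 2 = 1 := by rw [pow_two]; nth_rewrite 2 [hc]; exact mul_inv_cancel x
  have := orderOf_dvd_of_pow_eq_one h3
  rw [hx] at this
  exact h2 ((Nat.prime_dvd_prime_iff_eq hp.out Nat.prime_two).1 this)

/-! ### Complex conjugation -/

theorem conj_cases (i : Fin 12) : ∃ j, (∀ g, (T.χ j : G → ℂ) g = conj ((T.χ i : G → ℂ) g)) ∧
    (j = i ∨ (i = 2 ∧ j = 3) ∨ (i = 3 ∧ j = 2) ∨ (i = 9 ∧ j = 10) ∨ (i = 10 ∧ j = 9)) := by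
  obtain ⟨j, hj, hd⟩ := T.exists_same ⟨_, Char.isIrrCharacter_conj (T.χ i).2⟩ (i := i)
    (by simp [T.deg_apply])
  exact ⟨j, fun g => by rw [hj], same_deg i j hd⟩

theorem exists_nonreal {x : G} (h : ¬ IsConj x x⁻¹) :
    ∃ i, conj ((T.χ i : G → ℂ) x) ≠ (T.χ i : G → ℂ) x := by
  have := Fintype.ofFinite G
  by_contra hall
  simp only [not_exists, not_not] at hall
  refine h ((Char.isConj_iff_forall_irr x x⁻¹).2 fun φ => ?_)
  obtain ⟨i, rfl⟩ := T.bij.surjective φ
  rw [Char.char_inv (Char.irr_isCharacter (T.χ i).2), hall]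

theorem pairs : (∀ g, (T.χ 3 : G → ℂ) g = conj ((T.χ 2 : G → ℂ) g)) ∧
    (∃ g, ((T.χ 2 : G → ℂ) g).im ≠ 0) ∧
    (∀ g, (T.χ 10 : G → ℂ) g = conj ((T.χ 9 : G → ℂ) g)) ∧
    ∃ g, ((T.χ 9 : G → ℂ) g).im ≠ 0 := by
  have : Fact (Nat.Prime 7) := ⟨by norm_num⟩
  have : Fact (Nat.Prime 11) := ⟨by norm_num⟩
  obtain ⟨x, hx⟩ := exists_prime_orderOf_dvd_card' (G := G) 7 (by rw [T.card]; norm_num)
  obtain ⟨z, hz⟩ := exists_prime_orderOf_dvd_card' (G := G) 11 (by rw [T.card]; norm_num)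
  have nx := not_conj_inv T.seven (by norm_num) (by decide) hx
  have nz := not_conj_inv T.eleven (by norm_num) (by decide) hz
  have ex := (T.rel11 x (by rw [hx]; norm_num)).1
  have ez := (T.rel7 z (by rw [hz]; norm_num)).1
  have key : ∀ {i : Fin 12} {g : G}, conj ((T.χ i : G → ℂ) g) ≠ (T.χ i : G → ℂ) g →
      (i = 2 ∨ i = 3) ∧ (T.χ 2 : G → ℂ) g ≠ (T.χ 3 : G → ℂ) g ∧
        (∀ s, (T.χ 3 : G → ℂ) s = conj ((T.χ 2 : G → ℂ) s)) ∨
      (i = 9 ∨ i = 10) ∧ (T.χ 9 : G → ℂ) g ≠ (T.χ 10 : G → ℂ) g ∧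
        (∀ s, (T.χ 10 : G → ℂ) s = conj ((T.χ 9 : G → ℂ) s)) := by
    intro i g hne
    obtain ⟨j, hj, hc⟩ := T.conj_cases i
    rw [← hj] at hne
    rcases hc with rfl | ⟨rfl, rfl⟩ | ⟨rfl, rfl⟩ | ⟨rfl, rfl⟩ | ⟨rfl, rfl⟩
    · exact absurd rfl hne
    · exact Or.inl ⟨Or.inl rfl, hne.symm, hj⟩
    · exact Or.inl ⟨Or.inr rfl, hne, fun s => by rw [hj, Complex.conj_conj]⟩
    · exact Or.inr ⟨Or.inl rfl, hne.symm, hj⟩
    · exact Or.inr ⟨Or.inr rfl, hne, fun s => by rw [hj, Complex.conj_conj]⟩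
  obtain ⟨i, hi⟩ := T.exists_nonreal nx
  obtain ⟨k, hk⟩ := T.exists_nonreal nz
  obtain ⟨-, h2, hc2⟩ := (key hi).resolve_right fun h => h.2.1 ex
  obtain ⟨-, h9, hc9⟩ := (key hk).resolve_left fun h => h.2.1 ez
  refine ⟨hc2, ⟨x, fun h => h2 ?_⟩, hc9, ⟨z, fun h => h9 ?_⟩⟩
  · rw [hc2, Complex.conj_eq_iff_im.2 h]
  · rw [hc9, Complex.conj_eq_iff_im.2 h]

theorem real_iff (i : Fin 12) : (∀ g, ((T.χ i : G → ℂ) g).im = 0) ↔ realIdx i = true := by
  obtain ⟨h3, ⟨x, hx⟩, h10, ⟨z, hz⟩⟩ := T.pairs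
  have x3 : ((T.χ 3 : G → ℂ) x).im ≠ 0 := by rw [h3, Complex.conj_im]; exact neg_ne_zero.2 hx
  have z10 : ((T.χ 10 : G → ℂ) z).im ≠ 0 := by rw [h10, Complex.conj_im]; exact neg_ne_zero.2 hz
  obtain ⟨j, hj, hc⟩ := T.conj_cases i
  constructor
  · intro h
    by_contra hne
    have : i = 2 ∨ i = 3 ∨ i = 9 ∨ i = 10 := by
      clear hj hc h; revert hne; revert i; decide
    rcases this with rfl | rfl | rfl | rfl
    · exact hx (h x)
    · exact x3 (h x)
    · exact hz (h z)
    · exact z10 (h z)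
  · intro h g
    rcases hc with rfl | ⟨rfl, -⟩ | ⟨rfl, -⟩ | ⟨rfl, -⟩ | ⟨rfl, -⟩
    · exact Complex.conj_eq_iff_im.1 (hj g).symm
    all_goals exact absurd h (by decide)

/-! ### Classes -/

omit T in
theorem size_mul (g : G) :
    Nat.card (ConjClasses.mk g).carrier * Nat.card (centralizer ({g} : Set G)) = Nat.card G := by
  have := Fintype.ofFinite G
  exact Char.natCard_carrier_mul_centralizer g

omit T in
theorem carrier_subset {g : G} {n : ℕ} (h : orderOf g = n) :
    (ConjClasses.mk g).carrier ⊆ {s | orderOf s = n} := fun s hs => by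
  obtain ⟨c, rfl⟩ := isConj_iff.1 (ConjClasses.mk_eq_mk_iff_isConj.1
    (ConjClasses.mem_carrier_iff_mk_eq.1 hs)).symm
  show orderOf (c * g * c⁻¹) = n
  rw [CfsgLib.Invol.orderOf_conj_eq, h]

omit T in
theorem cnt_of_conj {g : G} {n : ℕ} (h : orderOf g = n)
    (hall : ∀ s, orderOf s = n → IsConj g s) : cnt G n = Nat.card (ConjClasses.mk g).carrier := by
  refine Nat.card_congr (Equiv.setCongr (s := {s | orderOf s = n}) ?_)
  refine (carrier_subset h).antisymm' fun s hs => ?_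
  exact ConjClasses.mem_carrier_iff_mk_eq.2 (ConjClasses.mk_eq_mk_iff_isConj.2 (hall s hs).symm)

theorem card_t : Nat.card (ConjClasses.mk T.t).carrier = 1155 := by
  have := size_mul T.t
  rw [T.card, T.ct] at this
  omega

theorem fs_two : cnt G 2 = 1155 ∧ ∀ [Fintype G], ∀ i,
    BlockB.fsInd (T.χ i) = if realIdx i then 1 else 0 := by
  classical
  have := Fintype.ofFinite (IrrCharacter G)
  have hle : 1155 ≤ cnt G 2 := by
    rw [← T.card_t, cnt]
    exact Nat.card_mono (Set.toFinite _) (carrier_subset T.ht)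
  suffices H : ∀ [Fintype G], cnt G 2 = 1155 ∧ ∀ i,
      BlockB.fsInd (T.χ i) = if realIdx i then 1 else 0 from by
    have := Fintype.ofFinite G
    exact ⟨H.1, fun i => H.2 i⟩
  intro _
  obtain ⟨e, he, hsum⟩ := BlockA.involution_count_int (G := G)
  rw [T.sum_irr fun φ : IrrCharacter G => e φ * (charDegree (φ : G → ℂ) : ℤ), sum_twelve] at hsum
  have h0 : ∀ i, realIdx i = false → e (T.χ i) = 0 := fun i hi =>
    (he (T.χ i)).2.2.2 fun h => by rw [(T.real_iff i).1 h] at hi; exact Bool.noConfusion hi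
  have hb : ∀ i, e (T.χ i) ≤ 1 := fun i => by
    rcases (he (T.χ i)).2.1 with h | h | h <;> omega
  simp only [T.deg, degs, Matrix.cons_val] at hsum
  rw [h0 2 rfl, h0 3 rfl, h0 9 rfl, h0 10 rfl] at hsum
  change (cnt G 2 : ℤ) + 1 = _ at hsum
  have := hb 0; have := hb 1; have := hb 4; have := hb 5; have := hb 6; have := hb 7
  have := hb 8; have := hb 11
  have key : cnt G 2 = 1155 ∧ e (T.χ 0) = 1 ∧ e (T.χ 1) = 1 ∧ e (T.χ 4) = 1 ∧ e (T.χ 5) = 1 ∧
      e (T.χ 6) = 1 ∧ e (T.χ 7) = 1 ∧ e (T.χ 8) = 1 ∧ e (T.χ 11) = 1 := by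
    push_cast at hsum
    omega
  obtain ⟨hc, k0, k1, k4, k5, k6, k7, k8, k11⟩ := key
  refine ⟨hc, fun i => ?_⟩
  rw [(he (T.χ i)).1]
  fin_cases i <;>
    simp [realIdx, k0, k1, k4, k5, k6, k7, k8, k11, h0 2 rfl, h0 3 rfl, h0 9 rfl, h0 10 rfl]

theorem isConj_two {x : G} (hx : orderOf x = 2) : IsConj T.t x := by
  have heq : (ConjClasses.mk T.t).carrier = {s | orderOf s = 2} :=
    Set.eq_of_subset_of_ncard_le (carrier_subset T.ht) (by
      rw [← Nat.card_coe_set_eq, ← Nat.card_coe_set_eq, T.card_t]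
      exact le_of_eq T.fs_two.1) (Set.toFinite _)
  have hm : x ∈ (ConjClasses.mk T.t).carrier := by rw [heq]; exact hx
  exact (ConjClasses.mk_eq_mk_iff_isConj.1 (ConjClasses.mem_carrier_iff_mk_eq.1 hm)).symm

theorem sqrt_count (x : G) : (Nat.card {s : G // s * s = x} : ℂ) =
    (T.χ 0 : G → ℂ) x + (T.χ 1 : G → ℂ) x + (T.χ 4 : G → ℂ) x + (T.χ 5 : G → ℂ) x +
      (T.χ 6 : G → ℂ) x + (T.χ 7 : G → ℂ) x + (T.χ 8 : G → ℂ) x + (T.χ 11 : G → ℂ) x := by
  classical
  have := Fintype.ofFinite G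
  have := Fintype.ofFinite (IrrCharacter G)
  have h := BlockB.sqrtCount_eq_sum x
  rw [T.sum_irr fun φ : IrrCharacter G => BlockB.fsInd φ * (φ : G → ℂ) x, sum_twelve] at h
  simp only [T.fs_two.2, realIdx] at h
  norm_num [Fin.ext_iff] at h
  rw [← h, Nat.card_eq_fintype_card, Fintype.card_subtype, BlockB.sqrtCount]

omit T in
theorem card_sq_order (n R : ℕ)
    (h : ∀ x : G, orderOf x = n → Nat.card {s : G // s * s = x} = R) :
    Nat.card {s : G // orderOf (s * s) = n} = cnt G n * R := by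
  classical
  have := Fintype.ofFinite G
  rw [cnt, Nat.card_eq_fintype_card, Nat.card_eq_fintype_card, Fintype.card_subtype,
    Fintype.card_subtype]
  rw [Finset.card_eq_sum_card_fiberwise (f := fun s => s * s)
    (t := Finset.univ.filter fun x => orderOf x = n) (fun s hs => by simpa using hs)]
  rw [Finset.sum_congr rfl (g := fun _ => R) fun x hx => ?_, Finset.sum_const, smul_eq_mul]
  rw [← h x (Finset.mem_filter.1 hx).2, Nat.card_eq_fintype_card, Fintype.card_subtype,
    Finset.filter_filter]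
  congr 1
  ext s
  simp only [Finset.mem_filter, Finset.mem_univ, true_and]
  exact ⟨fun h => h.2, fun e => ⟨e ▸ (Finset.mem_filter.1 hx).2, e⟩⟩

omit T in
theorem order_mul_self (s : G) : orderOf (s * s) = orderOf s / Nat.gcd (orderOf s) 2 ∧
    (Nat.gcd (orderOf s) 2 = 1 ∧ ¬ 2 ∣ orderOf s ∨ Nat.gcd (orderOf s) 2 = 2 ∧ 2 ∣ orderOf s) := by
  refine ⟨by rw [← pow_two, orderOf_pow], ?_⟩
  by_cases h : 2 ∣ orderOf s
  · exact Or.inr ⟨Nat.gcd_eq_right h, h⟩
  · exact Or.inl ⟨(Nat.prime_two.coprime_iff_not_dvd.2 h).symm, h⟩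

theorem cnt_four : cnt G 4 = 41580 := by
  have h36 : ∀ x : G, orderOf x = 2 → Nat.card {s : G // s * s = x} = 36 := fun x hx => by
    have h := T.sqrt_count x
    simp only [← Char.isClassFunction_isConj (Char.irr_isClassFunction (T.χ _).2)
      (T.isConj_two hx), T.tval, tv, Matrix.cons_val] at h
    norm_num at h
    exact_mod_cast h
  have h := card_sq_order 2 36 h36
  rw [T.fs_two.1] at h
  rw [cnt, show (41580 : ℕ) = 1155 * 36 by norm_num, ← h]
  refine Nat.card_congr (Equiv.subtypeEquivRight fun s => ?_)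
  obtain ⟨e, hc⟩ := order_mul_self s
  rw [e]
  rcases hc with ⟨g, h2⟩ | ⟨g, h2⟩ <;> rw [g] <;> omega

/-! ### Elements of order three -/

theorem val_int {g : G} (_h5 : ¬ 5 ∣ orderOf g) (h7 : ¬ 7 ∣ orderOf g) (h11 : ¬ 11 ∣ orderOf g)
    (i : Fin 12) : ∃ m : ℤ, (T.χ i : G → ℂ) g = m := by
  refine OrderM12.exists_int_value (Char.irr_isCharacter (T.χ i).2) fun k hk => ?_
  obtain ⟨j, hj, hd⟩ := T.exists_same (BlockB.galIrr hk (T.χ i)) (i := i)
    (by simp [BlockB.galIrr, T.deg_apply])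
  have he : (T.χ j : G → ℂ) g = (T.χ i : G → ℂ) (g ^ k) := by rw [hj]; rfl
  rw [← he]
  rcases same_deg i j hd with rfl | ⟨rfl, rfl⟩ | ⟨rfl, rfl⟩ | ⟨rfl, rfl⟩ | ⟨rfl, rfl⟩
  exacts [rfl, (T.rel7 g h7).1.symm, (T.rel7 g h7).1, (T.rel11 g h11).1.symm, (T.rel11 g h11).1]

theorem not_dvd_of_three {y : G} (hy : orderOf y = 3) {p e : ℕ} [hp : Fact p.Prime]
    (hS : SelfCent G p e) (hp3 : p ≠ 3) : ¬ p ∣ Nat.card (centralizer ({y} : Set G)) := by
  intro hd
  obtain ⟨⟨q, hq⟩, hqo⟩ :=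
    exists_prime_orderOf_dvd_card' (G := centralizer ({y} : Set G)) p hd
  rw [Subgroup.orderOf_mk] at hqo
  have := T.card
  have ho : orderOf (y * q) = 3 * p := by
    rw [Commute.orderOf_mul_eq_mul_orderOf_of_coprime
      (show Commute y q from (mem_centralizer_singleton_iff.1 hq).symm)
      (by rw [hy, hqo]; exact (Nat.coprime_primes Nat.prime_three hp.out).2 hp3.symm), hy, hqo]
  have := order_eq hS (g := y * q) (ho ▸ dvd_mul_left p 3)
  rw [ho] at this
  have := hp.out.pos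
  omega

theorem cent_three_dvd {y : G} (hy : orderOf y = 3) :
    9 ∣ Nat.card (centralizer ({y} : Set G)) ∧ Nat.card (centralizer ({y} : Set G)) ∣ 1152 := by
  have : Fact (Nat.Prime 3) := ⟨Nat.prime_three⟩
  refine ⟨?_, ?_⟩
  · obtain ⟨P, hP⟩ := (IsPGroup.of_card (G := zpowers y) (p := 3) (n := 1)
      (by rw [Nat.card_zpowers, hy, pow_one])).exists_le_sylow
    have hc : Nat.card (P : Subgroup G) = 9 := by
      rw [Sylow.card_eq_multiplicity, T.card,
        show (443520 : ℕ).factorization 3 = 2 by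
          rw [Nat.factorization_def _ Nat.prime_three,
            show (443520 : ℕ) = 3 ^ 2 * 49280 by norm_num,
            padicValNat.mul (by norm_num) (by norm_num), padicValNat.prime_pow,
            padicValNat.eq_zero_of_not_dvd (by norm_num)]]
      norm_num
    have hle : (P : Subgroup G) ≤ centralizer ({y} : Set G) := fun s hs => by
      have hcomm : ∀ a b : (P : Subgroup G), a * b = b * a :=
        IsPGroup.commutative_of_card_eq_prime_sq (p := 3) (by rw [hc]; norm_num)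
      exact mem_centralizer_singleton_iff.2
        (congrArg Subtype.val (hcomm ⟨s, hs⟩ ⟨y, hP (mem_zpowers y)⟩))
    exact hc ▸ card_dvd_of_le hle
  · have hd : Nat.card (centralizer ({y} : Set G)) ∣ 1152 * 5 * 7 * 11 := by
      have := (centralizer ({y} : Set G)).card_subgroup_dvd_card
      rwa [T.card] at this
    have : Fact (Nat.Prime 5) := ⟨by norm_num⟩
    have : Fact (Nat.Prime 7) := ⟨by norm_num⟩
    have : Fact (Nat.Prime 11) := ⟨by norm_num⟩
    have c5 := T.not_dvd_of_three hy T.five (by norm_num)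
    have c7 := T.not_dvd_of_three hy T.seven (by norm_num)
    have c11 := T.not_dvd_of_three hy T.eleven (by norm_num)
    refine Nat.Coprime.dvd_of_dvd_mul_right ?_ (Nat.Coprime.dvd_of_dvd_mul_right ?_
      (Nat.Coprime.dvd_of_dvd_mul_right ?_ hd))
    · exact ((Fact.out : Nat.Prime 5).coprime_iff_not_dvd.2 c5).symm
    · exact ((Fact.out : Nat.Prime 7).coprime_iff_not_dvd.2 c7).symm
    · exact ((Fact.out : Nat.Prime 11).coprime_iff_not_dvd.2 c11).symm

/-- The column at an element of order three, the parameter being the value of the seventh. -/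
def col3 (f : ℤ) : Fin 12 → ℤ := ![1, f, 0, 0, 1, 0, 1, f, -f, 1, 1, -2]

theorem column_three {y : G} (hy : orderOf y = 3) : ∃ f : ℤ,
    (f = 0 ∧ Nat.card (centralizer ({y} : Set G)) = 9 ∨
      f = 3 ∧ Nat.card (centralizer ({y} : Set G)) = 36) ∧
      ∀ i, (T.χ i : G → ℂ) y = (col3 f i : ℂ) := by
  classical
  have : Fact (Nat.Prime 3) := ⟨Nat.prime_three⟩
  have h5 : ¬ 5 ∣ orderOf y := by rw [hy]; norm_num
  have h7 : ¬ 7 ∣ orderOf y := by rw [hy]; norm_num
  have h11 : ¬ 11 ∣ orderOf y := by rw [hy]; norm_num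
  choose v hv using T.val_int h5 h7 h11
  have r5 := T.rel5 y h5
  obtain ⟨r7a, r7⟩ := T.rel7 y h7
  obtain ⟨r11a, r11⟩ := T.rel11 y h11
  simp only [hv] at r5 r7a r7 r11a r11
  norm_cast at r5 r7a r7 r11a r11
  have v0 : v 0 = 1 := by
    have := hv 0
    rw [congrFun T.triv y] at this
    exact_mod_cast this.symm
  have n1 : ¬ IsConj y 1 := fun h => by
    obtain ⟨c, hc⟩ := isConj_iff.1 h
    have := congrArg orderOf hc
    rw [CfsgLib.Invol.orderOf_conj_eq, hy, orderOf_one] at this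
    omega
  have nt : ¬ IsConj y T.t := fun h => by
    obtain ⟨c, hc⟩ := isConj_iff.1 h
    have := congrArg orderOf hc
    rw [CfsgLib.Invol.orderOf_conj_eq, hy, T.ht] at this
    omega
  have o1 := T.col y 1
  rw [if_neg n1] at o1
  simp only [sum_twelve, hv, T.deg_apply, degs, Matrix.cons_val, map_natCast] at o1
  norm_cast at o1
  have ot := T.col y T.t
  rw [if_neg nt] at ot
  simp only [sum_twelve, hv, T.tval, tv, Matrix.cons_val, map_intCast] at ot
  norm_cast at ot
  push_cast at o1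
  have e1 : v 1 = 1 + 2 * v 2 + v 7 - v 9 := by omega
  have e4 : v 4 = 1 + v 5 - v 2 := by omega
  have e6 : v 6 = v 2 + v 9 - v 5 := by omega
  have e8 : v 8 = -2 - v 2 - v 7 + 2 * v 9 := by omega
  have e11 : v 11 = 1 - 3 * v 9 := by omega
  obtain ⟨hc9, hc⟩ := T.cent_three_dvd hy
  set c := Nat.card (centralizer ({y} : Set G)) with hcdef
  have oy := T.col y y
  rw [if_pos (IsConj.refl y)] at oy
  simp only [sum_twelve, hv, map_intCast] at oy
  norm_cast at oy
  have hn : nrm (v 2) (v 5) (v 9) (v 7) = c := by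
    rw [v0, ← r7a, ← r11a, e1, e4, e6, e8, e11] at oy
    rw [← oy, nrm]
    ring
  have hgal : ∀ i (j : ℕ), ¬ 3 ∣ j → (T.χ i : G → ℂ) (y ^ j) = (v i : ℂ) := fun i j hj => by
    have hco : Nat.Coprime (orderOf y) j := by
      rw [hy]; exact Nat.prime_three.coprime_iff_not_dvd.2 hj
    rcases Nat.lt_or_ge (j % 3) 2 with h | h
    · have : j % 3 = 1 := by omega
      rw [← pow_mod_orderOf, hy, this, pow_one, hv]
    · have h2 : y ^ j = y⁻¹ := by
        rw [← pow_mod_orderOf, hy, show j % 3 = 2 by omega]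
        exact eq_inv_of_mul_eq_one_left (by rw [← pow_succ, show 2 + 1 = orderOf y by omega, pow_orderOf_eq_one])
      rw [h2, Char.char_inv (Char.irr_isCharacter (T.χ i).2), hv, map_intCast]
  have hcong : ∀ i, (3 : ℤ) ∣ (degs i : ℤ) - v i := fun i => by
    have := OrderM12.dvd_degree_sub (χ := T.χ i) hy (hgal i)
    rwa [T.deg] at this
  have hdiv : ∀ i, (degs i : ℤ) ∣ ((443520 / c : ℕ) : ℤ) * v i := fun i => by
    have h := OrderM12.dvd_index_mul (T.χ i) (hv i)
    rw [T.deg] at h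
    have hi := (centralizer ({y} : Set G)).index_mul_card
    rw [T.card, ← hcdef] at hi
    rwa [Nat.eq_div_of_mul_eq_left (Nat.card_pos (α := centralizer ({y} : Set G))).ne' hi] at h
  have hsq : (y ^ 2) * (y ^ 2) = y := by
    rw [← pow_add, show 2 + 2 = orderOf y + 1 by omega, pow_succ, pow_orderOf_eq_one, one_mul]
  have hR := T.sqrt_count y
  simp only [hv] at hR
  norm_cast at hR
  have hpos : 0 < Nat.card {s : G // s * s = y} := by
    have : Nonempty {s : G // s * s = y} := ⟨⟨y ^ 2, hsq⟩⟩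
    exact Nat.card_pos
  have g2 := hcong 2; have g5 := hcong 5; have g7 := hcong 7; have g9 := hcong 9
  simp only [degs, Matrix.cons_val] at g2 g5 g7 g9
  push_cast at g2 g5 g7 g9
  have d1 := hdiv 1; have d2 := hdiv 2; have d4 := hdiv 4; have d5 := hdiv 5; have d6 := hdiv 6
  have d7 := hdiv 7; have d8 := hdiv 8; have d9 := hdiv 9; have d11 := hdiv 11
  rw [e1] at d1; rw [e4] at d4; rw [e6] at d6; rw [e8] at d8; rw [e11] at d11
  simp only [degs, Matrix.cons_val] at d1 d2 d4 d5 d6 d7 d8 d9 d11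
  push_cast at d1 d2 d4 d5 d6 d7 d8 d9 d11
  obtain ⟨a0, b0, e0, hcf⟩ := solve_col (c := c) (a := v 2) (b := v 5) (e := v 9) (f := v 7) hc9 hc
    (by omega) (by omega) (by omega) (by omega) hn (by omega)
    (by simp only [divOK, Bool.and_eq_true, decide_eq_true_eq]
        exact ⟨⟨⟨⟨⟨⟨⟨⟨d1, d2⟩, d4⟩, d5⟩, d6⟩, d7⟩, d8⟩, d9⟩, d11⟩)
  refine ⟨v 7, by tauto, fun i => ?_⟩
  rw [hv]
  congr 1
  fin_cases i <;> simp [col3] <;> omega

theorem isConj_three {y z : G} (hy : orderOf y = 3) (hz : orderOf z = 3) : IsConj y z := by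
  classical
  by_contra hn
  obtain ⟨f, hf, hvy⟩ := T.column_three hy
  obtain ⟨g, hg, hvz⟩ := T.column_three hz
  have h := T.col y z
  rw [if_neg hn] at h
  simp only [sum_twelve, hvy, hvz, col3, Matrix.cons_val, map_intCast] at h
  norm_cast at h
  rcases hf with ⟨rfl, -⟩ | ⟨rfl, -⟩ <;> rcases hg with ⟨rfl, -⟩ | ⟨rfl, -⟩ <;>
    norm_num [Int.negSucc_eq] at h

theorem three_six : cnt G 3 = 12320 ∧ cnt G 6 = 36960 := by
  classical
  have : Fact (Nat.Prime 3) := ⟨Nat.prime_three⟩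
  obtain ⟨⟨y, hy'⟩, hy⟩ := exists_prime_orderOf_dvd_card' (G := centralizer ({T.t} : Set G)) 3
    (by rw [T.ct]; norm_num)
  rw [Subgroup.orderOf_mk] at hy
  obtain ⟨f, hf, hvy⟩ := T.column_three hy
  have h2 : 2 ∣ Nat.card (centralizer ({y} : Set G)) := T.ht ▸ Subgroup.orderOf_dvd_natCard _
    (mem_centralizer_singleton_iff.2 (mem_centralizer_singleton_iff.1 hy').symm)
  obtain ⟨rfl, hc⟩ : f = 3 ∧ Nat.card (centralizer ({y} : Set G)) = 36 := hf.resolve_left
    fun h => by rw [h.2] at h2; omega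
  have h3 : cnt G 3 = 12320 := by
    rw [cnt_of_conj hy fun s hs => T.isConj_three hy hs]
    have := size_mul y
    rw [T.card, hc] at this
    omega
  have h4 : ∀ x : G, orderOf x = 3 → Nat.card {s : G // s * s = x} = 4 := fun x hx => by
    have h := T.sqrt_count x
    simp only [← Char.isClassFunction_isConj (Char.irr_isClassFunction (T.χ _).2)
      (T.isConj_three hy hx), hvy, col3, Matrix.cons_val] at h
    norm_num at h
    exact_mod_cast h
  have h := card_sq_order 3 4 h4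
  rw [h3] at h
  have hsplit : Nat.card {s : G // orderOf (s * s) = 3} = cnt G 3 + cnt G 6 := by
    rw [cnt, cnt, ← Nat.card_sum]
    refine Nat.card_congr ((Equiv.subtypeEquivRight fun s => ?_).trans
      (subtypeOrEquiv (fun s : G => orderOf s = 3) (fun s => orderOf s = 6) ?_))
    · obtain ⟨e, hc⟩ := order_mul_self s
      rw [e]
      rcases hc with ⟨g, h2⟩ | ⟨g, h2⟩ <;> rw [g] <;> omega
    · rw [Pi.disjoint_iff]
      intro s
      simp only [Prop.disjoint_iff]
      omega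
  exact ⟨h3, by omega⟩

/-! ### The count of classes -/

open scoped _root_.Classical in
/-- The classes of elements of order `n`. -/
noncomputable def cls (G : Type u) [Group G] [Fintype (ConjClasses G)] (n : ℕ) :
    Finset (ConjClasses G) :=
  Finset.univ.filter fun C => orderOf (Quotient.out C) = n

omit T in
theorem order_out {g : G} {C : ConjClasses G} (h : ConjClasses.mk g = C) :
    orderOf (Quotient.out C) = orderOf g := by
  have : ConjClasses.mk (Quotient.out C) = C := Quotient.out_eq C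
  obtain ⟨c, hc⟩ := isConj_iff.1 (ConjClasses.mk_eq_mk_iff_isConj.1 (h.trans this.symm))
  rw [← hc, CfsgLib.Invol.orderOf_conj_eq]

omit T in
theorem cnt_eq_sum [Fintype (ConjClasses G)] (n : ℕ) :
    cnt G n = ∑ C ∈ cls G n, Nat.card C.carrier := by
  classical
  have := Fintype.ofFinite G
  rw [cnt, Nat.card_eq_fintype_card, Fintype.card_subtype,
    Finset.card_eq_sum_card_fiberwise (f := ConjClasses.mk) (t := cls G n) fun g hg => ?_]
  · refine Finset.sum_congr rfl fun C hC => ?_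
    rw [Nat.card_eq_fintype_card, Fintype.card_subtype, Finset.filter_filter]
    congr 1
    ext g
    simp only [Finset.mem_filter, Finset.mem_univ, true_and, ConjClasses.mem_carrier_iff_mk_eq]
    exact ⟨fun h => h.2, fun h => ⟨(order_out h).symm.trans (Finset.mem_filter.1 hC).2, h⟩⟩
  · simp only [Finset.mem_coe, Finset.mem_filter, Finset.mem_univ, true_and] at hg
    simp [cls, order_out (g := g) rfl, hg]

theorem prime_count [Fintype (ConjClasses G)] {p e : ℕ} [hp : Fact p.Prime] (hS : SelfCent G p e)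
    (hd : p ∣ 443520) :
    cnt G p * (p * e) = (p - 1) * 443520 ∧ cnt G p * p = (cls G p).card * 443520 := by
  obtain ⟨x, hx⟩ := exists_prime_orderOf_dvd_card' (G := G) p (T.card ▸ hd)
  obtain ⟨P⟩ : Nonempty (Sylow p G) := inferInstance
  constructor
  · obtain ⟨hPc, hcc, hi⟩ := hS P
    have hN : Nat.card (normalizer ((P : Subgroup G) : Set G)) = p * e := by
      have hm := ((centralizer ((P : Subgroup G) : Set G)).subgroupOf
        (normalizer ((P : Subgroup G) : Set G))).card_mul_index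
      rw [Nat.card_congr (subgroupOfEquivOfLe (centralizer_le_normalizer _)).toEquiv, hcc] at hm
      rw [relIndex] at hi
      rw [hi] at hm
      exact hm.symm
    rw [cnt, Transfer.card_orderOf_eq_prime P hPc, ← hN, P.card_eq_index_normalizer, ← T.card,
      ← (normalizer ((P : Subgroup G) : Set G)).index_mul_card]
    exact (by intros; ring : ∀ a b c : ℕ, a * b * c = b * (a * c)) _ _ _
  · rw [cnt_eq_sum, Finset.sum_mul, Finset.sum_congr rfl (g := fun _ => 443520) fun C hC => ?_,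
      Finset.sum_const, smul_eq_mul]
    have ho : orderOf (Quotient.out C) = p := (Finset.mem_filter.1 hC).2
    have h := size_mul (Quotient.out C)
    rw [(cent_eq hS ho).1, T.card] at h
    exact (congrArg (fun D : ConjClasses G => Nat.card D.carrier * p) (Quotient.out_eq C)).symm.trans h

/-- The numbers of elements of each order. -/
theorem hyp : ClassK.M22Nse.Hyp G := by
  classical
  have : Finite (ConjClasses G) := Finite.of_surjective _ ConjClasses.mk_surjective
  have := Fintype.ofFinite (ConjClasses G)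
  have : Fact (Nat.Prime 5) := ⟨by norm_num⟩
  have : Fact (Nat.Prime 7) := ⟨by norm_num⟩
  have : Fact (Nat.Prime 11) := ⟨by norm_num⟩
  obtain ⟨c5, k5⟩ := T.prime_count T.five (by norm_num)
  obtain ⟨c7, k7⟩ := T.prime_count T.seven (by norm_num)
  obtain ⟨c11, k11⟩ := T.prime_count T.eleven (by norm_num)
  obtain ⟨c3, c6⟩ := T.three_six
  have c4 := T.cnt_four
  have c2 := T.fs_two.1
  have c1 : cnt G 1 = 1 := cnt_one
  have hpos : ∀ n, cnt G n ≠ 0 → 1 ≤ (cls G n).card := fun n h => by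
    refine Finset.card_pos.2 (Finset.nonempty_iff_ne_empty.2 fun e => h ?_)
    rw [cnt_eq_sum, e, Finset.sum_empty]
  have k1 := hpos 1 (by omega)
  have k2 := hpos 2 (by omega)
  have k3 := hpos 3 (by omega)
  have k6 := hpos 6 (by omega)
  have k4 : 2 ≤ (cls G 4).card := by
    by_contra hlt
    have := hpos 4 (by omega)
    obtain ⟨C, hC⟩ := Finset.card_eq_one.1 (show (cls G 4).card = 1 by omega)
    have h := cnt_eq_sum (G := G) 4
    rw [hC, Finset.sum_singleton, c4] at h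
    have hd : Nat.card C.carrier ∣ 443520 := by
      rw [← T.card, ← size_mul (Quotient.out C)]
      exact (congrArg (fun D : ConjClasses G => Nat.card D.carrier) (Quotient.out_eq C)) ▸
        dvd_mul_right _ _
    rw [← h] at hd
    norm_num at hd
  set S : Finset ℕ := {1, 2, 3, 4, 5, 6, 7, 11} with hS
  set f : ConjClasses G → ℕ := fun C => orderOf (Quotient.out C) with hf
  set O := Finset.univ.filter fun C : ConjClasses G => f C ∉ S with hO
  have hcard : (∑ n ∈ S, (cls G n).card) + O.card = 12 := by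
    have h1 : (Finset.univ.filter fun C : ConjClasses G => f C ∈ S).card =
        ∑ n ∈ S, (cls G n).card := by
      rw [Finset.card_eq_sum_card_fiberwise (f := f) (t := S) fun C hC => by simpa using hC]
      refine Finset.sum_congr rfl fun n hn => ?_
      rw [Finset.filter_filter, cls]
      congr 1
      ext C
      simp only [Finset.mem_filter, Finset.mem_univ, true_and]
      exact ⟨fun h => h.2, fun h => ⟨show orderOf (Quotient.out C) ∈ S by rw [h]; exact hn, h⟩⟩
    rw [← h1, hO, Finset.card_filter_add_card_filter_not, Finset.card_univ,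
      ← Nat.card_eq_fintype_card, ← Char.irr_card_eq, ← Nat.card_congr T.equiv, Nat.card_fin]
  have hsum : (∑ n ∈ S, cnt G n) + ∑ C ∈ O, Nat.card C.carrier = 443520 := by
    have h1 : ∑ n ∈ S, cnt G n =
        ∑ C ∈ Finset.univ.filter (fun C : ConjClasses G => f C ∈ S), Nat.card C.carrier := by
      rw [← Finset.sum_fiberwise_of_maps_to (g := f) (t := S) fun C hC => by simpa using hC]
      refine Finset.sum_congr rfl fun n hn => ?_
      rw [cnt_eq_sum, Finset.filter_filter, cls]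
      refine Finset.sum_congr (Finset.ext fun C => ?_) fun _ _ => rfl
      simp only [Finset.mem_filter, Finset.mem_univ, true_and]
      exact ⟨fun h => ⟨show orderOf (Quotient.out C) ∈ S by rw [h]; exact hn, h⟩, fun h => h.2⟩
    rw [h1, hO, Finset.sum_filter_add_sum_filter_not]
    have h2 := Group.sum_card_conj_classes_eq_card G
    rw [finsum_eq_sum_of_fintype] at h2
    simp only [← Nat.card_coe_set_eq] at h2
    rw [h2, T.card]
  simp only [hS, Finset.sum_insert, Finset.mem_insert, Finset.mem_singleton, Nat.reduceEqDiff,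
    or_self, not_false_eq_true, Finset.sum_singleton] at hcard hsum
  have c5' : cnt G 5 = 88704 := by omega
  have c7' : cnt G 7 = 126720 := by omega
  have c11' : cnt G 11 = 80640 := by omega
  have hO1 : O.card ≤ 1 := by omega
  have hOs : ∑ C ∈ O, Nat.card C.carrier = 55440 := by omega
  obtain ⟨C0, hC0⟩ : ∃ C0, O = {C0} := by
    refine Finset.card_eq_one.1 (le_antisymm hO1 (Finset.card_pos.2 ?_))
    exact Finset.nonempty_iff_ne_empty.2 fun e => by rw [e] at hOs; simp at hOs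
  have hother : ∀ n, n ∉ S → cnt G n ≠ 0 → f C0 = n ∧ cnt G n = 55440 := by
    intro n hn h0
    have hsub : cls G n ⊆ O := fun C hC => by
      have : f C = n := (Finset.mem_filter.1 hC).2
      simp [hO, this, hn]
    rw [hC0, Finset.subset_singleton_iff] at hsub
    rcases hsub with e | e
    · have := hpos n h0
      rw [e] at this
      simp at this
    · have hm : C0 ∈ cls G n := by rw [e]; exact Finset.mem_singleton_self C0
      refine ⟨(Finset.mem_filter.1 hm).2, ?_⟩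
      rw [cnt_eq_sum, e, ← hC0, hOs]
  refine ⟨T.card, fun n hn => ?_, fun c hc => ?_⟩
  · by_cases h : n ∈ S
    · simp only [hS, Finset.mem_insert, Finset.mem_singleton] at h
      rcases h with rfl | rfl | rfl | rfl | rfl | rfl | rfl | rfl <;>
        simp only [ClassK.M22Nse.vals, Finset.mem_insert, Finset.mem_singleton] <;> omega
    · rw [(hother n h hn).2]
      simp [ClassK.M22Nse.vals]
  · have h0 : cnt G (f C0) ≠ 0 := Nat.card_ne_zero.2 ⟨⟨⟨Quotient.out C0, rfl⟩⟩, inferInstance⟩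
    have hm : C0 ∈ O := by rw [hC0]; exact Finset.mem_singleton_self C0
    have hn0 : f C0 ∉ S := (Finset.mem_filter.1 hm).2
    simp only [ClassK.M22Nse.vals, Finset.mem_insert, Finset.mem_singleton] at hc
    rcases hc with rfl | rfl | rfl | rfl | rfl | rfl | rfl | rfl | rfl
    exacts [⟨1, c1⟩, ⟨2, c2⟩, ⟨3, c3⟩, ⟨4, c4⟩, ⟨5, c5'⟩, ⟨6, c6⟩, ⟨7, c7'⟩,
      ⟨f C0, (hother _ hn0 h0).2⟩, ⟨11, c11'⟩]

end Table

end CfsgLib.Recog.OrderM22
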