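import Cfsg.Agent.Lib.Recog.OrderM22.Endgame
import Cfsg.Agent.Lib.ClassK.M22Nse.Final
import Cfsg.Agent.Lib.ClassK.M22Nse.Model

/-!
# A group with the known part of the table is the Mathieu group on twenty-two points
-/

set_option autoImplicit false

namespace CfsgLib.Recog.OrderM22

open Cfsg CfsgLib.Golay CfsgLib.ClassK

universe u

theorem Table.iso {G : Type u} [Group G] [Finite G] (T : Table G) : Cfsg.Spor.IsoM22 G :=
  M22Nse.iso_of_hyp T.hyp (M22Nse.hyp_of_nse card_sporM22 M22Nse.nse_M22)

end CfsgLib.Recog.OrderM22
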