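import Cfsg.Agent.Lib.Recog.OrderM22.Sieve

/-!
# Simple groups of order 443520: the rows surviving the tests at one and two primes
-/

set_option autoImplicit false
set_option maxRecDepth 100000

namespace CfsgLib.Recog.OrderM22

/-- The rows at eleven admissible at a central involution. -/
def liveEleven : List Blk :=
  [⟨11, 5, 1, [(56, true), (120, false), (210, true), (252, false)], 105, -1⟩,
   ⟨11, 5, 1, [(45, true), (120, false), (144, true), (210, true)], 280, 1⟩,
   ⟨11, 5, 1, [(45, true), (120, false), (120, false), (320, true)], 126, 1⟩,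
   ⟨11, 5, 1, [(45, true), (120, false), (120, false), (210, true)], 16, 1⟩,
   ⟨11, 5, 1, [(45, true), (56, true), (120, false), (210, true)], 192, 1⟩,
   ⟨11, 5, 1, [(45, true), (56, true), (120, false), (144, true)], 126, 1⟩,
   ⟨11, 5, 1, [(21, false), (210, true), (320, true), (384, false)], 126, 1⟩,
   ⟨11, 5, 1, [(21, false), (210, true), (210, true), (384, false)], 16, 1⟩,
   ⟨11, 5, 1, [(21, false), (120, false), (210, true), (210, true)], 280, 1⟩,
   ⟨11, 5, 1, [(21, false), (56, true), (120, false), (252, false)], 336, -1⟩,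
   ⟨11, 5, 1, [(21, false), (56, true), (120, false), (210, true)], 126, 1⟩,
   ⟨11, 5, 1, [(21, false), (45, true), (45, true), (210, true)], 280, 1⟩,
   ⟨11, 5, 1, [(21, false), (45, true), (45, true), (56, true)], 126, 1⟩,
   ⟨11, 5, 1, [(21, false), (32, false), (56, true), (56, true)], 60, 1⟩,
   ⟨11, 5, 1, [(21, false), (32, false), (32, false), (252, false)], 336, -1⟩,
   ⟨11, 5, 1, [(21, false), (32, false), (32, false), (210, true)], 126, 1⟩,
   ⟨11, 5, 1, [(21, false), (21, false), (320, true), (384, false)], 105, -1⟩,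
   ⟨11, 5, 1, [(21, false), (21, false), (56, true), (120, false)], 105, -1⟩,
   ⟨11, 5, 1, [(21, false), (21, false), (45, true), (56, true)], 60, 1⟩,
   ⟨11, 5, 1, [(21, false), (21, false), (32, false), (32, false)], 105, -1⟩,
   ⟨11, 5, 1, [(21, false), (21, false), (21, false), (56, true)], 6, -1⟩,
   ⟨11, 5, 1, [(12, true), (56, true), (56, true), (120, false)], 5, 1⟩,
   ⟨11, 5, 1, [(12, true), (32, false), (120, false), (144, true)], 5, 1⟩,
   ⟨11, 5, 1, [(12, true), (21, false), (32, false), (45, true)], 5, 1⟩,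
   ⟨11, 5, 1, [(10, false), (120, false), (120, false), (144, true)], 105, -1⟩,
   ⟨11, 5, 1, [(10, false), (45, true), (120, false), (210, true)], 126, 1⟩,
   ⟨11, 5, 1, [(10, false), (45, true), (120, false), (144, true)], 60, 1⟩,
   ⟨11, 5, 1, [(10, false), (45, true), (45, true), (45, true)], 126, 1⟩,
   ⟨11, 5, 1, [(10, false), (32, false), (56, true), (120, false)], 105, -1⟩,
   ⟨11, 5, 1, [(10, false), (32, false), (45, true), (56, true)], 60, 1⟩,
   ⟨11, 5, 1, [(10, false), (21, false), (45, true), (120, false)], 105, -1⟩,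
   ⟨11, 5, 1, [(10, false), (21, false), (45, true), (45, true)], 60, 1⟩,
   ⟨11, 5, 1, [(10, false), (12, true), (45, true), (120, false)], 72, -1⟩,
   ⟨11, 5, 1, [(10, false), (12, true), (12, true), (120, false)], 105, -1⟩,
   ⟨11, 5, 1, [(10, false), (12, true), (12, true), (45, true)], 60, 1⟩,
   ⟨11, 5, 1, [(10, false), (10, false), (120, false), (144, true)], 5, 1⟩,
   ⟨11, 5, 1, [(10, false), (10, false), (32, false), (56, true)], 5, 1⟩,
   ⟨11, 5, 1, [(10, false), (10, false), (12, true), (12, true)], 5, 1⟩,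
   ⟨11, 5, 1, [(10, false), (10, false), (10, false), (45, true)], 16, 1⟩]

/-- The pairs of rows at eleven and seven. -/
def liveSeven : List (Blk × Blk) :=
  [(⟨11, 5, 1, [(45, true), (120, false), (120, false), (320, true)], 126, 1⟩, ⟨7, 3, 8, [(55, false), (120, true)], 66, 1⟩),
   (⟨11, 5, 1, [(45, true), (56, true), (120, false), (144, true)], 126, 1⟩, ⟨7, 3, 8, [(55, false), (120, true)], 66, 1⟩),
   (⟨11, 5, 1, [(21, false), (120, false), (210, true), (210, true)], 280, 1⟩, ⟨7, 3, 1, [(55, false), (120, true)], 66, 1⟩),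
   (⟨11, 5, 1, [(21, false), (120, false), (210, true), (210, true)], 280, 1⟩, ⟨7, 3, 8, [(55, false), (120, true)], 66, 1⟩),
   (⟨11, 5, 1, [(21, false), (120, false), (210, true), (210, true)], 280, 1⟩, ⟨7, 6, 4, [(55, false), (99, true), (99, true), (120, true), (132, false), (132, false)], 0, 1⟩),
   (⟨11, 5, 1, [(21, false), (120, false), (210, true), (210, true)], 280, 1⟩, ⟨7, 6, 4, [(22, true), (55, false), (120, true), (132, false), (132, false), (176, true)], 0, 1⟩),
   (⟨11, 5, 1, [(21, false), (56, true), (120, false), (252, false)], 336, -1⟩, ⟨7, 3, 1, [(55, false), (120, true)], 66, 1⟩),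
   (⟨11, 5, 1, [(21, false), (56, true), (120, false), (210, true)], 126, 1⟩, ⟨7, 3, 1, [(55, false), (120, true)], 66, 1⟩),
   (⟨11, 5, 1, [(21, false), (45, true), (45, true), (210, true)], 280, 1⟩, ⟨7, 3, 1, [(55, false), (99, true)], 45, 1⟩),
   (⟨11, 5, 1, [(21, false), (21, false), (56, true), (120, false)], 105, -1⟩, ⟨7, 3, 1, [(55, false), (120, true)], 66, 1⟩),
   (⟨11, 5, 1, [(12, true), (56, true), (56, true), (120, false)], 5, 1⟩, ⟨7, 3, 8, [(55, false), (120, true)], 66, 1⟩),
   (⟨11, 5, 1, [(12, true), (56, true), (56, true), (120, false)], 5, 1⟩, ⟨7, 6, 4, [(55, false), (99, true), (99, true), (120, true), (132, false), (132, false)], 0, 1⟩),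
   (⟨11, 5, 1, [(12, true), (56, true), (56, true), (120, false)], 5, 1⟩, ⟨7, 6, 4, [(55, false), (55, false), (99, true), (120, true), (330, true), (440, false)], 0, 1⟩),
   (⟨11, 5, 1, [(12, true), (56, true), (56, true), (120, false)], 5, 1⟩, ⟨7, 6, 4, [(55, false), (55, false), (55, false), (55, false), (99, true), (120, true)], 0, 1⟩),
   (⟨11, 5, 1, [(12, true), (56, true), (56, true), (120, false)], 5, 1⟩, ⟨7, 6, 4, [(22, true), (55, false), (120, true), (132, false), (132, false), (176, true)], 0, 1⟩),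
   (⟨11, 5, 1, [(12, true), (32, false), (120, false), (144, true)], 5, 1⟩, ⟨7, 3, 8, [(55, false), (120, true)], 66, 1⟩),
   (⟨11, 5, 1, [(12, true), (32, false), (120, false), (144, true)], 5, 1⟩, ⟨7, 6, 4, [(55, false), (99, true), (99, true), (120, true), (132, false), (132, false)], 0, 1⟩),
   (⟨11, 5, 1, [(12, true), (32, false), (120, false), (144, true)], 5, 1⟩, ⟨7, 6, 4, [(55, false), (55, false), (99, true), (120, true), (330, true), (440, false)], 0, 1⟩),
   (⟨11, 5, 1, [(12, true), (32, false), (120, false), (144, true)], 5, 1⟩, ⟨7, 6, 4, [(55, false), (55, false), (55, false), (55, false), (99, true), (120, true)], 0, 1⟩),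
   (⟨11, 5, 1, [(12, true), (32, false), (120, false), (144, true)], 5, 1⟩, ⟨7, 6, 4, [(22, true), (55, false), (120, true), (132, false), (132, false), (176, true)], 0, 1⟩),
   (⟨11, 5, 1, [(10, false), (45, true), (120, false), (210, true)], 126, 1⟩, ⟨7, 3, 8, [(55, false), (120, true)], 66, 1⟩),
   (⟨11, 5, 1, [(10, false), (45, true), (120, false), (144, true)], 60, 1⟩, ⟨7, 3, 8, [(55, false), (120, true)], 66, 1⟩),
   (⟨11, 5, 1, [(10, false), (45, true), (120, false), (144, true)], 60, 1⟩, ⟨7, 6, 4, [(55, false), (99, true), (99, true), (120, true), (132, false), (132, false)], 0, 1⟩),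
   (⟨11, 5, 1, [(10, false), (21, false), (45, true), (120, false)], 105, -1⟩, ⟨7, 3, 8, [(55, false), (120, true)], 66, 1⟩),
   (⟨11, 5, 1, [(10, false), (21, false), (45, true), (120, false)], 105, -1⟩, ⟨7, 6, 4, [(55, false), (99, true), (99, true), (120, true), (132, false), (132, false)], 0, 1⟩),
   (⟨11, 5, 1, [(10, false), (21, false), (45, true), (120, false)], 105, -1⟩, ⟨7, 6, 4, [(22, true), (55, false), (120, true), (132, false), (132, false), (176, true)], 0, 1⟩),
   (⟨11, 5, 1, [(10, false), (12, true), (45, true), (120, false)], 72, -1⟩, ⟨7, 3, 8, [(55, false), (120, true)], 66, 1⟩),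
   (⟨11, 5, 1, [(10, false), (12, true), (45, true), (120, false)], 72, -1⟩, ⟨7, 6, 4, [(55, false), (99, true), (99, true), (120, true), (132, false), (132, false)], 0, 1⟩),
   (⟨11, 5, 1, [(10, false), (12, true), (45, true), (120, false)], 72, -1⟩, ⟨7, 6, 4, [(22, true), (55, false), (120, true), (132, false), (132, false), (176, true)], 0, 1⟩),
   (⟨11, 5, 1, [(10, false), (12, true), (12, true), (120, false)], 105, -1⟩, ⟨7, 3, 8, [(55, false), (120, true)], 66, 1⟩),
   (⟨11, 5, 1, [(10, false), (12, true), (12, true), (120, false)], 105, -1⟩, ⟨7, 6, 4, [(55, false), (99, true), (99, true), (120, true), (132, false), (132, false)], 0, 1⟩),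
   (⟨11, 5, 1, [(10, false), (12, true), (12, true), (120, false)], 105, -1⟩, ⟨7, 6, 4, [(22, true), (55, false), (120, true), (132, false), (132, false), (176, true)], 0, 1⟩)]

/-- The pairs of rows at eleven and five. -/
def liveFive : List (Blk × Blk) :=
  [(⟨11, 5, 1, [(45, true), (120, false), (144, true), (210, true)], 280, 1⟩, ⟨5, 4, 1, [(99, false), (144, false), (154, false), (396, true)], 0, 1⟩),
   (⟨11, 5, 1, [(45, true), (120, false), (144, true), (210, true)], 280, 1⟩, ⟨5, 4, 1, [(66, true), (99, false), (144, false), (176, true)], 0, 1⟩),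
   (⟨11, 5, 1, [(45, true), (120, false), (144, true), (210, true)], 280, 1⟩, ⟨5, 4, 1, [(11, true), (44, false), (144, false), (176, true)], 0, 1⟩),
   (⟨11, 5, 1, [(21, false), (210, true), (320, true), (384, false)], 126, 1⟩, ⟨5, 4, 16, [(99, false), (126, true), (126, true), (154, false)], 0, 1⟩),
   (⟨11, 5, 1, [(21, false), (120, false), (210, true), (210, true)], 280, 1⟩, ⟨5, 4, 1, [(21, true), (99, false), (154, false), (231, true)], 0, 1⟩),
   (⟨11, 5, 1, [(21, false), (120, false), (210, true), (210, true)], 280, 1⟩, ⟨5, 4, 1, [(21, true), (66, true), (66, true), (154, false)], 0, 1⟩),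
   (⟨11, 5, 1, [(21, false), (120, false), (210, true), (210, true)], 280, 1⟩, ⟨5, 4, 1, [(11, true), (21, true), (66, true), (99, false)], 0, 1⟩),
   (⟨11, 5, 1, [(21, false), (56, true), (120, false), (210, true)], 126, 1⟩, ⟨5, 2, 12, [(21, true)], 22, 1⟩),
   (⟨11, 5, 1, [(21, false), (56, true), (120, false), (210, true)], 126, 1⟩, ⟨5, 2, 192, [(21, true)], 22, 1⟩),
   (⟨11, 5, 1, [(21, false), (56, true), (120, false), (210, true)], 126, 1⟩, ⟨5, 4, 16, [(99, false), (126, true), (126, true), (154, false)], 0, 1⟩),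
   (⟨11, 5, 1, [(21, false), (56, true), (120, false), (210, true)], 126, 1⟩, ⟨5, 4, 16, [(21, true), (66, true), (66, true), (154, false)], 0, 1⟩),
   (⟨11, 5, 1, [(21, false), (45, true), (45, true), (210, true)], 280, 1⟩, ⟨5, 4, 1, [(21, true), (99, false), (154, false), (231, true)], 0, 1⟩),
   (⟨11, 5, 1, [(21, false), (45, true), (45, true), (210, true)], 280, 1⟩, ⟨5, 4, 1, [(21, true), (66, true), (66, true), (154, false)], 0, 1⟩),
   (⟨11, 5, 1, [(21, false), (32, false), (32, false), (210, true)], 126, 1⟩, ⟨5, 4, 16, [(99, false), (126, true), (126, true), (154, false)], 0, 1⟩),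
   (⟨11, 5, 1, [(21, false), (21, false), (320, true), (384, false)], 105, -1⟩, ⟨5, 2, 12, [(21, true)], 22, 1⟩),
   (⟨11, 5, 1, [(21, false), (21, false), (320, true), (384, false)], 105, -1⟩, ⟨5, 2, 192, [(21, true)], 22, 1⟩),
   (⟨11, 5, 1, [(21, false), (21, false), (320, true), (384, false)], 105, -1⟩, ⟨5, 4, 6, [(21, true), (44, false), (44, false), (66, true)], 0, 1⟩),
   (⟨11, 5, 1, [(21, false), (21, false), (320, true), (384, false)], 105, -1⟩, ⟨5, 4, 16, [(21, true), (99, false), (154, false), (231, true)], 0, 1⟩),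
   (⟨11, 5, 1, [(21, false), (21, false), (320, true), (384, false)], 105, -1⟩, ⟨5, 4, 16, [(21, true), (66, true), (66, true), (154, false)], 0, 1⟩),
   (⟨11, 5, 1, [(21, false), (21, false), (320, true), (384, false)], 105, -1⟩, ⟨5, 4, 16, [(11, true), (21, true), (231, true), (264, false)], 0, 1⟩),
   (⟨11, 5, 1, [(21, false), (21, false), (320, true), (384, false)], 105, -1⟩, ⟨5, 4, 96, [(21, true), (44, false), (44, false), (66, true)], 0, 1⟩),
   (⟨11, 5, 1, [(21, false), (21, false), (56, true), (120, false)], 105, -1⟩, ⟨5, 2, 12, [(21, true)], 22, 1⟩),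
   (⟨11, 5, 1, [(21, false), (21, false), (56, true), (120, false)], 105, -1⟩, ⟨5, 2, 192, [(21, true)], 22, 1⟩),
   (⟨11, 5, 1, [(21, false), (21, false), (56, true), (120, false)], 105, -1⟩, ⟨5, 4, 6, [(21, true), (44, false), (44, false), (66, true)], 0, 1⟩),
   (⟨11, 5, 1, [(21, false), (21, false), (56, true), (120, false)], 105, -1⟩, ⟨5, 4, 16, [(21, true), (99, false), (154, false), (231, true)], 0, 1⟩),
   (⟨11, 5, 1, [(21, false), (21, false), (56, true), (120, false)], 105, -1⟩, ⟨5, 4, 16, [(21, true), (66, true), (66, true), (154, false)], 0, 1⟩),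
   (⟨11, 5, 1, [(21, false), (21, false), (56, true), (120, false)], 105, -1⟩, ⟨5, 4, 16, [(11, true), (21, true), (231, true), (264, false)], 0, 1⟩),
   (⟨11, 5, 1, [(21, false), (21, false), (56, true), (120, false)], 105, -1⟩, ⟨5, 4, 96, [(21, true), (44, false), (44, false), (66, true)], 0, 1⟩),
   (⟨11, 5, 1, [(21, false), (21, false), (45, true), (56, true)], 60, 1⟩, ⟨5, 2, 192, [(21, true)], 22, 1⟩),
   (⟨11, 5, 1, [(21, false), (21, false), (32, false), (32, false)], 105, -1⟩, ⟨5, 2, 12, [(21, true)], 22, 1⟩),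
   (⟨11, 5, 1, [(21, false), (21, false), (32, false), (32, false)], 105, -1⟩, ⟨5, 2, 192, [(21, true)], 22, 1⟩),
   (⟨11, 5, 1, [(21, false), (21, false), (32, false), (32, false)], 105, -1⟩, ⟨5, 4, 6, [(21, true), (44, false), (44, false), (66, true)], 0, 1⟩),
   (⟨11, 5, 1, [(21, false), (21, false), (32, false), (32, false)], 105, -1⟩, ⟨5, 4, 16, [(21, true), (99, false), (154, false), (231, true)], 0, 1⟩),
   (⟨11, 5, 1, [(21, false), (21, false), (32, false), (32, false)], 105, -1⟩, ⟨5, 4, 16, [(21, true), (66, true), (66, true), (154, false)], 0, 1⟩),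
   (⟨11, 5, 1, [(21, false), (21, false), (32, false), (32, false)], 105, -1⟩, ⟨5, 4, 16, [(11, true), (21, true), (231, true), (264, false)], 0, 1⟩),
   (⟨11, 5, 1, [(21, false), (21, false), (32, false), (32, false)], 105, -1⟩, ⟨5, 4, 96, [(21, true), (44, false), (44, false), (66, true)], 0, 1⟩),
   (⟨11, 5, 1, [(21, false), (21, false), (21, false), (56, true)], 6, -1⟩, ⟨5, 2, 12, [(21, true)], 22, 1⟩),
   (⟨11, 5, 1, [(21, false), (21, false), (21, false), (56, true)], 6, -1⟩, ⟨5, 2, 192, [(21, true)], 22, 1⟩),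
   (⟨11, 5, 1, [(21, false), (21, false), (21, false), (56, true)], 6, -1⟩, ⟨5, 4, 6, [(21, true), (44, false), (44, false), (66, true)], 0, 1⟩),
   (⟨11, 5, 1, [(21, false), (21, false), (21, false), (56, true)], 6, -1⟩, ⟨5, 4, 16, [(21, true), (99, false), (154, false), (231, true)], 0, 1⟩),
   (⟨11, 5, 1, [(21, false), (21, false), (21, false), (56, true)], 6, -1⟩, ⟨5, 4, 16, [(21, true), (66, true), (66, true), (154, false)], 0, 1⟩),
   (⟨11, 5, 1, [(21, false), (21, false), (21, false), (56, true)], 6, -1⟩, ⟨5, 4, 16, [(11, true), (21, true), (231, true), (264, false)], 0, 1⟩),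
   (⟨11, 5, 1, [(21, false), (21, false), (21, false), (56, true)], 6, -1⟩, ⟨5, 4, 96, [(21, true), (44, false), (44, false), (66, true)], 0, 1⟩),
   (⟨11, 5, 1, [(10, false), (120, false), (120, false), (144, true)], 105, -1⟩, ⟨5, 4, 1, [(99, false), (144, false), (154, false), (396, true)], 0, 1⟩),
   (⟨11, 5, 1, [(10, false), (120, false), (120, false), (144, true)], 105, -1⟩, ⟨5, 4, 1, [(66, true), (99, false), (144, false), (176, true)], 0, 1⟩),
   (⟨11, 5, 1, [(10, false), (120, false), (120, false), (144, true)], 105, -1⟩, ⟨5, 4, 1, [(11, true), (44, false), (144, false), (176, true)], 0, 1⟩),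
   (⟨11, 5, 1, [(10, false), (45, true), (120, false), (144, true)], 60, 1⟩, ⟨5, 4, 1, [(99, false), (144, false), (154, false), (396, true)], 0, 1⟩),
   (⟨11, 5, 1, [(10, false), (45, true), (120, false), (144, true)], 60, 1⟩, ⟨5, 4, 1, [(66, true), (99, false), (144, false), (176, true)], 0, 1⟩),
   (⟨11, 5, 1, [(10, false), (45, true), (120, false), (144, true)], 60, 1⟩, ⟨5, 4, 1, [(11, true), (99, false), (144, false), (231, true)], 0, 1⟩),
   (⟨11, 5, 1, [(10, false), (45, true), (120, false), (144, true)], 60, 1⟩, ⟨5, 4, 1, [(11, true), (44, false), (144, false), (176, true)], 0, 1⟩),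
   (⟨11, 5, 1, [(10, false), (21, false), (45, true), (120, false)], 105, -1⟩, ⟨5, 4, 1, [(21, true), (99, false), (154, false), (231, true)], 0, 1⟩),
   (⟨11, 5, 1, [(10, false), (21, false), (45, true), (120, false)], 105, -1⟩, ⟨5, 4, 1, [(11, true), (21, true), (66, true), (99, false)], 0, 1⟩),
   (⟨11, 5, 1, [(10, false), (21, false), (45, true), (45, true)], 60, 1⟩, ⟨5, 4, 1, [(21, true), (99, false), (154, false), (231, true)], 0, 1⟩),
   (⟨11, 5, 1, [(10, false), (21, false), (45, true), (45, true)], 60, 1⟩, ⟨5, 4, 1, [(11, true), (21, true), (66, true), (99, false)], 0, 1⟩),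
   (⟨11, 5, 1, [(10, false), (10, false), (120, false), (144, true)], 5, 1⟩, ⟨5, 4, 1, [(99, false), (144, false), (154, false), (396, true)], 0, 1⟩),
   (⟨11, 5, 1, [(10, false), (10, false), (120, false), (144, true)], 5, 1⟩, ⟨5, 4, 1, [(66, true), (99, false), (144, false), (176, true)], 0, 1⟩),
   (⟨11, 5, 1, [(10, false), (10, false), (120, false), (144, true)], 5, 1⟩, ⟨5, 4, 1, [(11, true), (44, false), (144, false), (176, true)], 0, 1⟩)]

/-- The test of a pair against one row at eleven. -/
def stepOK (p : ℕ) (live : List (Blk × Blk)) (A : Blk) : Bool :=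
  (configs p).all fun cw => forceN cw.1 fun e => forceN cw.2 fun w =>
    (rowsOf p e w (nextTo A)).all fun B => live.contains (A, B) || !pairLive A B

end CfsgLib.Recog.OrderM22
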