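import Cfsg.Agent.Lib.Recog.OrderM22.Assemble
import Cfsg.Agent.Lib.Recog.OrderM22.CheckEleven
import Cfsg.Agent.Lib.Recog.OrderM22.CheckSeven1
import Cfsg.Agent.Lib.Recog.OrderM22.CheckSeven2
import Cfsg.Agent.Lib.Recog.OrderM22.CheckSeven3
import Cfsg.Agent.Lib.Recog.OrderM22.CheckSeven4
import Cfsg.Agent.Lib.Recog.OrderM22.CheckFive1
import Cfsg.Agent.Lib.Recog.OrderM22.CheckFive2
import Cfsg.Agent.Lib.Recog.OrderM22.CheckFive3
import Cfsg.Agent.Lib.Recog.OrderM22.CheckFive4
import Cfsg.Agent.Lib.Recog.OrderM22.EndgameIso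

/-!
# Simple groups of order 443520 are isomorphic to the Mathieu group on twenty-two points
-/

set_option autoImplicit false
set_option synthInstance.maxSize 2000
set_option linter.unusedSectionVars false

namespace CfsgLib.Recog.OrderM22

open Cfsg CfsgLib CfsgLib.Block CfsgLib.ClassK CfsgLib.ClassK.RowSieve CfsgLib.ClassK.RowInvolution
open CfsgLib.Recog.OrderM12 (sum_sq_le)
open scoped Classical

universe u

variable {G : Type u} [Group G] [Finite G]

/-- Classical equality of characters. -/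
noncomputable local instance (priority := high) decEqIrr'' : DecidableEq (IrrCharacter G) :=
  Classical.decEq _

theorem mem_take_drop {α : Type*} {l : List α} {a : α} (ha : a ∈ l) :
    ∃ i < l.length, a ∈ (l.drop i).take 1 := by
  obtain ⟨i, hi, rfl⟩ := List.mem_iff_getElem.1 ha
  refine ⟨i, hi, ?_⟩
  rw [List.mem_iff_getElem]
  exact ⟨0, by simp; omega, by simp⟩

theorem stepOK_sound {p : ℕ} {live : List (Blk × Blk)} {A : Blk} (hok : stepOK p live A = true)
    {B : Blk} (hcw : (B.e, B.w) ∈ configs p) (hrow : B ∈ rowsOf p B.e B.w (nextTo A))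
    (hlive : pairLive A B = true) : (A, B) ∈ live := by
  have h := List.all_eq_true.1 hok _ hcw
  rw [forceN_eq, forceN_eq] at h
  have h' := List.all_eq_true.1 h B hrow
  simpa [hlive] using h'

theorem mem_liveSeven {A B : Blk} (hA : A ∈ liveEleven) (hcw : (B.e, B.w) ∈ configs 7)
    (hrow : B ∈ rowsOf 7 B.e B.w (nextTo A)) (hlive : pairLive A B = true) :
    (A, B) ∈ liveSeven := by
  obtain ⟨i, hi, hmem⟩ := mem_take_drop hA
  have hi' : i < 39 := hi.trans_le (by decide)
  refine stepOK_sound (List.all_eq_true.1 ?_ A hmem) hcw hrow hlive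
  interval_cases i
  exacts [check_seven_0, check_seven_1, check_seven_2, check_seven_3, check_seven_4, check_seven_5,
    check_seven_6, check_seven_7, check_seven_8, check_seven_9, check_seven_10, check_seven_11,
    check_seven_12, check_seven_13, check_seven_14, check_seven_15, check_seven_16, check_seven_17,
    check_seven_18, check_seven_19, check_seven_20, check_seven_21, check_seven_22, check_seven_23,
    check_seven_24, check_seven_25, check_seven_26, check_seven_27, check_seven_28, check_seven_29,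
    check_seven_30, check_seven_31, check_seven_32, check_seven_33, check_seven_34, check_seven_35,
    check_seven_36, check_seven_37, check_seven_38]

theorem mem_liveFive {A B : Blk} (hA : A ∈ liveEleven) (hcw : (B.e, B.w) ∈ configs 5)
    (hrow : B ∈ rowsOf 5 B.e B.w (nextTo A)) (hlive : pairLive A B = true) :
    (A, B) ∈ liveFive := by
  obtain ⟨i, hi, hmem⟩ := mem_take_drop hA
  have hi' : i < 39 := hi.trans_le (by decide)
  refine stepOK_sound (List.all_eq_true.1 ?_ A hmem) hcw hrow hlive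
  interval_cases i
  exacts [check_five_0, check_five_1, check_five_2, check_five_3, check_five_4, check_five_5,
    check_five_6, check_five_7, check_five_8, check_five_9, check_five_10, check_five_11,
    check_five_12, check_five_13, check_five_14, check_five_15, check_five_16, check_five_17,
    check_five_18, check_five_19, check_five_20, check_five_21, check_five_22, check_five_23,
    check_five_24, check_five_25, check_five_26, check_five_27, check_five_28, check_five_29,
    check_five_30, check_five_31, check_five_32, check_five_33, check_five_34, check_five_35,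
    check_five_36, check_five_37, check_five_38]

/-- Unions of degree lists respect the bound on squares. -/
theorem sqOK_of (h : Nat.card G = 443520) (U : Finset (IrrCharacter G)) {u : List ℕ}
    (hu : (↑u : Multiset ℕ) ≤ U.val.map dg) : sqOK u = true := by
  have := Fintype.ofFinite G
  have : Fintype (IrrCharacter G) := Fintype.ofFinite _
  have h' := CfsgLib.Char.sum_irr_sq (G := G)
  simp only [← BlockB.irr_degree_cast, pow_two, h] at h'
  have h'' : ∑ ψ : IrrCharacter G, dg ψ * dg ψ = 443520 := by exact_mod_cast h'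
  obtain ⟨rest, hrest⟩ := Multiset.le_iff_exists_add.1 hu
  have hs : ∑ ψ ∈ U, dg ψ * dg ψ = ((U.val.map dg).map fun d => d * d).sum := by
    rw [Multiset.map_map]; rfl
  have hle : ∑ ψ ∈ U, dg ψ * dg ψ ≤ 443520 :=
    (Finset.sum_le_univ_sum_of_nonneg fun _ => Nat.zero_le _).trans_eq h''
  rw [hs, hrest, Multiset.map_add, Multiset.sum_add, Multiset.map_coe, Multiset.sum_coe] at hle
  rw [sqOK, decide_eq_true_eq]
  omega

/-- Unions of members with values respect the norm. -/
theorem normOK_of {g : G} (v : IrrCharacter G → ℤ) (hv : ∀ φ : IrrCharacter G, (φ : G → ℂ) g = v φ)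
    (U : Finset (IrrCharacter G)) {u : List (ℕ × ℤ)} (hu : (↑u : Multiset (ℕ × ℤ)) ≤ U.val.map (vKey v)) :
    normOK (Nat.card (Subgroup.centralizer ({g} : Set G))) u = true := by
  obtain ⟨rest, hrest⟩ := Multiset.le_iff_exists_add.1 hu
  have := Fintype.ofFinite G
  have : Fintype (IrrCharacter G) := Fintype.ofFinite _
  rw [normOK, decide_eq_true_eq]
  have h := sum_sq_le g U v fun φ _ => hv φ
  have e : ∑ φ ∈ U, v φ * v φ = ((U.val.map (vKey v)).map fun k => k.2 * k.2).sum := by
    rw [Multiset.map_map]; rfl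
  rw [e, hrest, Multiset.map_add, Multiset.sum_add, Multiset.map_coe, Multiset.sum_coe] at h
  have hnn : 0 ≤ (rest.map fun k : ℕ × ℤ => k.2 * k.2).sum := Multiset.sum_nonneg fun a ha => by
    obtain ⟨k, -, rfl⟩ := Multiset.mem_map.1 ha
    exact mul_self_nonneg _
  linarith

theorem union_map_le {α : Type*} [DecidableEq α] (K : IrrCharacter G → α)
    (s t : Finset (IrrCharacter G)) : s.val.map K ∪ t.val.map K ≤ (s ∪ t).val.map K :=
  Multiset.union_le (Multiset.map_le_map (Finset.val_le_iff.2 Finset.subset_union_left))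
    (Multiset.map_le_map (Finset.val_le_iff.2 Finset.subset_union_right))

section Core

variable [Fact (Nat.Prime 11)] {A : Blk} {MA : Ideal AlgInt} {PA : Sylow 11 G}
  {CFA YFA : Finset (IrrCharacter G)} {εA : IrrCharacter G → ℤ}

theorem pairAt_of (SA : Setup 11 A MA PA CFA YFA εA) (hw : A.w = 1) {p : ℕ} [Fact p.Prime] {B : Blk}
    {MB : Ideal AlgInt} {PB : Sylow p G} {CFB YFB : Finset (IrrCharacter G)}
    {εB : IrrCharacter G → ℤ} (SB : Setup p B MB PB CFB YFB εB) {g : G} (hg : orderOf g = 2) :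
    pairAt A B (Nat.card (Subgroup.centralizer ({g} : Set G))) = true := by
  haveI := SA.simple
  obtain ⟨v, hv1, hv⟩ := exists_values SA.card hg
  obtain ⟨x, hx, hxk⟩ := SA.exists_vec hg v hv1 hv
  obtain ⟨y, hy, hyk⟩ := SB.exists_vecNext SA rfl hw hg v hv1 hv hxk (deg_mod_eleven SA)
  simp only [pairAt, List.any_eq_true, Bool.and_eq_true]
  refine ⟨x, hx, y, hy, ⟨SA.compatV_of v hxk hyk, SB.compatV_of v hyk hxk⟩,
    normOK_of v (fun φ => (hv φ).1) ((CFA ∪ YFA) ∪ (CFB ∪ YFB)) ?_⟩
  rw [coe_unionL, ← hxk, ← hyk]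
  exact union_map_le _ _ _

/-- An involution centralising an element of order `p`. -/
theorem exists_prime_involution (SA : Setup 11 A MA PA CFA YFA εA) (hw : A.w = 1) {p : ℕ}
    [hpf : Fact p.Prime] {B : Blk} {MB : Ideal AlgInt} {PB : Sylow p G}
    {CFB YFB : Finset (IrrCharacter G)} {εB : IrrCharacter G → ℤ}
    (SB : Setup p B MB PB CFB YFB εB) (he : B.w % 2 = 0) :
    ∃ g : G, orderOf g = 2 ∧
      Nat.card (Subgroup.centralizer ({g} : Set G)) ∈ atPrimeOrders B.p := by
  haveI := SA.simple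
  have : Fact (Nat.Prime 2) := ⟨Nat.prime_two⟩
  obtain ⟨⟨k, hkC⟩, hk⟩ := exists_prime_orderOf_dvd_card'
    (G := Subgroup.centralizer ((PB : Subgroup G) : Set G)) 2
    (by rw [SB.card_C]; exact dvd_mul_of_dvd_right (Nat.dvd_of_mod_eq_zero he) p)
  rw [Subgroup.orderOf_mk] at hk
  refine ⟨k, hk, List.mem_filter.2 ⟨mem_cenOrders (card_centralizer_dvd SA hw hk), ?_⟩⟩
  simp only [Bool.and_eq_true, decide_eq_true_eq, SB.prime_eq]
  refine ⟨Nat.mod_eq_zero_of_dvd ?_, Nat.mod_eq_zero_of_dvd ?_⟩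
  · exact hk ▸ Subgroup.orderOf_dvd_natCard _ (Subgroup.mem_centralizer_singleton_iff.2 rfl)
  · have hle : (PB : Subgroup G) ≤ Subgroup.centralizer ({k} : Set G) := fun a ha =>
      Subgroup.mem_centralizer_singleton_iff.2 (Subgroup.mem_centralizer_iff.1 hkC a ha)
    exact SB.card_P ▸ Subgroup.card_dvd_of_le hle

theorem pairLive_of (SA : Setup 11 A MA PA CFA YFA εA) (hw : A.w = 1) {p : ℕ} [Fact p.Prime]
    {B : Blk} {MB : Ideal AlgInt} {PB : Sylow p G} {CFB YFB : Finset (IrrCharacter G)}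
    {εB : IrrCharacter G → ℤ} (SB : Setup p B MB PB CFB YFB εB) : pairLive A B = true := by
  haveI := SA.simple
  have hdeg : degPair A B = true := by
    simp only [degPair, Bool.and_eq_true]
    refine ⟨⟨SA.compatD_of _ _ SB.degKeys_eq, SB.compatD_of _ _ SA.degKeys_eq⟩,
      sqOK_of SA.card ((CFA ∪ YFA) ∪ (CFB ∪ YFB)) ?_⟩
    rw [coe_unionL, ← SA.degKeys_eq, ← SB.degKeys_eq]
    exact union_map_le _ _ _
  simp only [pairLive, hdeg, Bool.true_and, Bool.and_eq_true, Bool.or_eq_true, decide_eq_true_eq,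
    List.any_eq_true]
  refine ⟨?_, ?_⟩
  · by_cases hodd : B.w % 2 = 1
    · exact Or.inl hodd
    · obtain ⟨g, hg, hc⟩ := exists_prime_involution SA hw SB (by omega)
      exact Or.inr ⟨_, hc, pairAt_of SA hw SB hg⟩
  · obtain ⟨z, hz, h128⟩ := exists_central_involution SA.card
    exact ⟨_, mem_centralOrders (card_centralizer_dvd SA hw hz) h128, pairAt_of SA hw SB hz⟩

theorem tripleLive_of (SA : Setup 11 A MA PA CFA YFA εA) (hw : A.w = 1) {p q : ℕ} [Fact p.Prime]
    [Fact q.Prime] {B C : Blk} {MB MC : Ideal AlgInt} {PB : Sylow p G} {PC : Sylow q G}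
    {CFB YFB CFC YFC : Finset (IrrCharacter G)} {εB εC : IrrCharacter G → ℤ}
    (SB : Setup p B MB PB CFB YFB εB) (SC : Setup q C MC PC CFC YFC εC) :
    tripleLive A B C = true := by
  haveI := SA.simple
  have hdeg : degTriple A B C = true := by
    simp only [degTriple, Bool.and_eq_true]
    refine ⟨⟨SB.compatD_of _ _ SC.degKeys_eq, SC.compatD_of _ _ SB.degKeys_eq⟩,
      sqOK_of SA.card ((CFA ∪ YFA) ∪ (CFB ∪ YFB) ∪ (CFC ∪ YFC)) ?_⟩
    rw [coe_unionL, coe_unionL, ← SA.degKeys_eq, ← SB.degKeys_eq, ← SC.degKeys_eq]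
    exact (Multiset.union_le ((union_map_le _ _ _).trans
      (Multiset.map_le_map (Finset.val_le_iff.2 Finset.subset_union_left)))
      (Multiset.map_le_map (Finset.val_le_iff.2 Finset.subset_union_right)))
  have hat : ∀ g : G, orderOf g = 2 →
      tripleAt A B C (Nat.card (Subgroup.centralizer ({g} : Set G))) = true := fun g hg => by
    obtain ⟨v, -, -, x, hx, y, hy, z, hz, hok, -⟩ := exists_triple SA hw SB SC hg
    simp only [tripleAt, List.any_eq_true]
    exact ⟨x, hx, y, hy, z, hz, hok⟩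
  simp only [tripleLive, hdeg, Bool.true_and, Bool.and_eq_true, Bool.or_eq_true, decide_eq_true_eq,
    List.any_eq_true]
  refine ⟨?_, ?_⟩
  · by_cases hodd : C.w % 2 = 1
    · exact Or.inl hodd
    · obtain ⟨g, hg, hc⟩ := exists_prime_involution SA hw SC (by omega)
      exact Or.inr ⟨_, hc, hat g hg⟩
  · obtain ⟨z, hz, h128⟩ := exists_central_involution SA.card
    exact ⟨_, mem_centralOrders (card_centralizer_dvd SA hw hz) h128, hat z hz⟩

theorem exists_next (SA : Setup 11 A MA PA CFA YFA εA) (hw : A.w = 1) {p : ℕ} [Fact p.Prime]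
    (hp2 : p ≠ 2) (h1 : p ∣ 443520) (h2 : ¬ p ^ 2 ∣ 443520) (P : Sylow p G) :
    ∃ (B : Blk) (M : Ideal AlgInt) (CF YF : Finset (IrrCharacter G)) (ε : IrrCharacter G → ℤ),
      Setup p B M P CF YF ε ∧ (B.e, B.w) ∈ configs p ∧ B ∈ rowsOf p B.e B.w (nextTo A) := by
  haveI := SA.simple
  refine exists_setup SA.card hp2 h1 h2 P (nextTo A) fun M _ φ _ _ => ?_
  rw [nextTo, Bool.or_eq_true, decide_eq_true_eq, List.contains_iff_mem]
  by_cases hφ : φ ∈ CFA ∪ YFA
  · right
    have h : dg φ ∈ (CFA ∪ YFA).val.map dg := Multiset.mem_map.2 ⟨φ, hφ, rfl⟩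
    rw [SA.degKeys_eq] at h
    exact h
  · exact Or.inl (Nat.mod_eq_zero_of_dvd (SA.dvd_deg hw hφ))

end Core

/-- The rows at eleven, seven and five. -/
theorem exists_rows_m22 [IsSimpleGroup G] [Fact (Nat.Prime 11)] [Fact (Nat.Prime 7)]
    [Fact (Nat.Prime 5)] (h : Nat.card G = 443520) (P11 : Sylow 11 G) (P7 : Sylow 7 G)
    (P5 : Sylow 5 G) :
    ∃ (MA MB MC : Ideal AlgInt) (CFA YFA CFB YFB CFC YFC : Finset (IrrCharacter G))
      (εA εB εC : IrrCharacter G → ℤ), Setup 11 rowEleven MA P11 CFA YFA εA ∧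
        Setup 7 rowSeven MB P7 CFB YFB εB ∧ Setup 5 rowFive MC P5 CFC YFC εC := by
  obtain ⟨A, MA, CFA, YFA, εA, SA, -, hrow⟩ := exists_setup h (p := 11) (by norm_num) (by norm_num)
    (by norm_num) P11 (fun _ => true) fun _ _ _ _ _ => rfl
  obtain ⟨-, hcfg, hC⟩ := config11 h P11
  have he : A.e = 5 := SA.rows.e_eq.symm.trans hcfg
  have hw : A.w = 1 := by
    have h' := SA.card_C.symm.trans hC
    omega
  rw [he, hw] at hrow
  have hA : A ∈ liveEleven := by
    obtain ⟨z, hz, h128⟩ := exists_central_involution h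
    obtain ⟨v, hv1, hv⟩ := exists_values h hz
    obtain ⟨x, hx, -⟩ := SA.exists_vec hz v hv1 hv
    exact check_eleven hrow (mem_centralOrders (card_centralizer_dvd SA hw hz) h128)
      (List.ne_nil_of_mem hx)
  obtain ⟨B, MB, CFB, YFB, εB, SB, hcB, hrB⟩ := exists_next SA hw (p := 7) (by norm_num)
    (by norm_num) (by norm_num) P7
  obtain ⟨C, MC, CFC, YFC, εC, SC, hcC, hrC⟩ := exists_next SA hw (p := 5) (by norm_num)
    (by norm_num) (by norm_num) P5
  have hB := mem_liveSeven hA hcB hrB (pairLive_of SA hw SB)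
  have hCl := mem_liveFive hA hcC hrC (pairLive_of SA hw SC)
  have hchk := List.all_eq_true.1 (List.all_eq_true.1 check_triple _ hB) _ hCl
  simp only [tripleLive_of SA hw SB SC, decide_true, Bool.and_self, Bool.not_true, Bool.false_or,
    Bool.and_eq_true, decide_eq_true_eq] at hchk
  obtain ⟨⟨rfl, rfl⟩, rfl⟩ := hchk
  exact ⟨MA, MB, MC, CFA, YFA, CFB, YFB, CFC, YFC, εA, εB, εC, SA, SB, SC⟩

/-- The known part of the table. -/
theorem nonempty_table [IsSimpleGroup G] (h : Nat.card G = 443520) : Nonempty (Table G) := by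
  have : Fact (Nat.Prime 11) := ⟨by norm_num⟩
  have : Fact (Nat.Prime 7) := ⟨by norm_num⟩
  have : Fact (Nat.Prime 5) := ⟨by norm_num⟩
  obtain ⟨P11⟩ := (inferInstance : Nonempty (Sylow 11 G))
  obtain ⟨P7⟩ := (inferInstance : Nonempty (Sylow 7 G))
  obtain ⟨P5⟩ := (inferInstance : Nonempty (Sylow 5 G))
  have h11 : SelfCent G 11 5 := fun P => by
    obtain ⟨_, _, _, _, _, _, _, _, _, _, _, _, SA, -, -⟩ := exists_rows_m22 h P P7 P5
    exact selfCent_of_rows SA rfl
  have h7 : SelfCent G 7 3 := fun P => by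
    obtain ⟨_, _, _, _, _, _, _, _, _, _, _, _, -, SB, -⟩ := exists_rows_m22 h P11 P P5
    exact selfCent_of_rows SB rfl
  have h5 : SelfCent G 5 4 := fun P => by
    obtain ⟨_, _, _, _, _, _, _, _, _, _, _, _, -, -, SC⟩ := exists_rows_m22 h P11 P7 P
    exact selfCent_of_rows SC rfl
  obtain ⟨_, _, _, _, _, _, _, _, _, _, _, _, SA, SB, SC⟩ := exists_rows_m22 h P11 P7 P5
  exact table_of_rows SA SB SC h5 h7 h11

theorem iso_of_card [IsSimpleGroup G] (h : Nat.card G = 443520) : Cfsg.Spor.IsoM22 G :=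
  (nonempty_table h).elim Table.iso

end CfsgLib.Recog.OrderM22
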