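import Cfsg.Agent.Lib.StructC.RowsTools
import Cfsg.Agent.Lib.ClassK.RowInvert

/-!
# Pairs of conjugates of an involution over the section of an element of prime order

For a Sylow subgroup `P = ⟨x⟩` of order `p` with centraliser `P × W`, the sum of a character outside the
principal block over `xW` vanishes, and the number of pairs of conjugates of an involution with product in
`xW` is `p` times a square, zero for an automiser of odd order.
-/

set_option autoImplicit false

namespace CfsgLib.Recog.OrderM22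

open Cfsg CfsgLib CfsgLib.Block CfsgLib.ClassK CfsgLib.ClassK.RowSieve
open scoped ComplexConjugate

universe u

variable {G : Type u} [Group G] [Finite G] {p : ℕ} [hpf : Fact p.Prime]

open scoped Classical in
/-- The `p`-regular elements of the centraliser. -/
noncomputable def regCen (p : ℕ) [Fintype G] (P : Subgroup G) : Finset G :=
  Finset.univ.filter fun y => y ∈ Subgroup.centralizer (P : Set G) ∧ ¬ p ∣ orderOf y

theorem mem_regCen [Fintype G] {P : Subgroup G} {y : G} :
    y ∈ regCen p P ↔ y ∈ Subgroup.centralizer (P : Set G) ∧ ¬ p ∣ orderOf y := by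
  classical
  simp [regCen]

/-- The size of the set of regular elements, and a power projecting `x y` to `x`. -/
theorem regCen_facts [Fintype G] (P : Sylow p G) (hP : Nat.card P = p) {x : G}
    (hx : x ∈ (P : Subgroup G)) (hx1 : x ≠ 1) {w : ℕ}
    (hC : Nat.card (Subgroup.centralizer ((P : Subgroup G) : Set G)) = p * w) (hpw : ¬ p ∣ w) :
    (regCen p (P : Subgroup G)).card = w ∧
      ∃ n : ℕ, n % p = 1 ∧ ∀ y ∈ regCen p (P : Subgroup G), Commute x y ∧ (x * y) ^ n = x := by
  classical
  have hp : p.Prime := hpf.out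
  have hxo : orderOf x = p := by
    have hd := Subgroup.orderOf_dvd_natCard (P : Subgroup G) hx
    rw [hP] at hd
    exact ((Nat.dvd_prime hp).1 hd).resolve_left fun h' => hx1 (orderOf_eq_one_iff.1 h')
  have hCx := BrauerReynolds.centralizer_mem_eq P hP hx hx1
  obtain ⟨hreg, hcard⟩ := core_of_hasNormalPComplement (hasNormalPComplement_centralizer P hP hx hx1)
  set H := Subgroup.centralizer ({x} : Set G) with hH
  set K := Cfsg.pPrimeCore p H
  have hw0 : w ≠ 0 := fun h => hpw (h ▸ dvd_zero p)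
  have hHc : Nat.card H = p * w := by rw [hCx, hC]
  rw [hHc, Nat.factorization_mul hp.pos.ne' hw0, Finsupp.add_apply, hp.factorization_self,
    Nat.factorization_eq_zero_of_not_dvd hpw, add_zero, pow_one] at hcard
  have hK : Nat.card K = w := (Nat.eq_of_mul_eq_mul_left hp.pos hcard).symm
  have hmem : ∀ y, y ∈ regCen p (P : Subgroup G) ↔ ∃ k : K, ((k : H) : G) = y := fun y => by
    rw [mem_regCen]
    constructor
    · rintro ⟨hy, hyr⟩
      have hyH : y ∈ H := by rw [hCx]; exact hy
      exact ⟨⟨⟨y, hyH⟩, hreg _ (by rwa [Subgroup.orderOf_mk])⟩, rfl⟩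
    · rintro ⟨k, rfl⟩
      refine ⟨hCx ▸ (k : H).2, fun hd => hpw (hK ▸ hd.trans ?_)⟩
      rw [Subgroup.orderOf_coe]
      exact Subgroup.orderOf_dvd_natCard K k.2
  refine ⟨?_, ?_⟩
  · rw [← hK, Nat.card_eq_fintype_card, ← Finset.card_univ,
      show regCen p (P : Subgroup G) = Finset.univ.image (fun k : K => ((k : H) : G)) by
        ext y; simp [hmem],
      Finset.card_image_of_injective _ fun a b h => Subtype.ext (Subtype.ext h)]
  · obtain ⟨n, hn1, hn0⟩ := Nat.chineseRemainder (hp.coprime_iff_not_dvd.2 hpw) 1 0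
    have hn : n % p = 1 := Eq.trans hn1 (Nat.mod_eq_of_lt hp.one_lt)
    refine ⟨n, hn, fun y hy => ?_⟩
    obtain ⟨k, rfl⟩ := (hmem y).1 hy
    have hc : Commute x ((k : H) : G) := (Subgroup.mem_centralizer_singleton_iff.1 (k : H).2).symm
    refine ⟨hc, ?_⟩
    have hky : ((k : H) : G) ^ n = 1 := by
      obtain ⟨m, hm⟩ := Nat.modEq_zero_iff_dvd.1 hn0
      have h1 : k ^ w = 1 := hK ▸ pow_card_eq_one'
      have h2 : ((k : H) : G) ^ w = 1 := by simpa using congrArg (fun z : K => ((z : H) : G)) h1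
      rw [hm, pow_mul, h2, one_pow]
    rw [hc.mul_pow, hky, mul_one, ← pow_mod_orderOf, hxo, hn, pow_one]

open scoped Classical in
/-- Outside the principal block the sum over `xW` vanishes. -/
theorem sum_section_eq [Fintype G] {M : Ideal AlgInt} (hM : IsPModular p M) (P : Sylow p G)
    (hP : Nat.card P = p) {x : G} (hx : x ∈ (P : Subgroup G)) (hx1 : x ≠ 1) {w : ℕ}
    (hC : Nat.card (Subgroup.centralizer ((P : Subgroup G) : Set G)) = p * w) (hpw : ¬ p ∣ w)
    (φ : IrrCharacter G) :
    ∑ y ∈ regCen p (P : Subgroup G), (φ : G → ℂ) (x * y) =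
      if φ ∈ principalBlock M G then (w : ℂ) * (φ : G → ℂ) x else 0 := by
  have := isPrime_of_pmodular hM
  have := Fintype.ofFinite (IrrCharacter G)
  have hp : p.Prime := hpf.out
  obtain ⟨hWc, n, -, hW⟩ := regCen_facts P hP hx hx1 hC hpw
  set W := regCen p (P : Subgroup G) with hWdef
  have hxo : orderOf x = p := by
    have hd := Subgroup.orderOf_dvd_natCard (P : Subgroup G) hx
    rw [hP] at hd
    exact ((Nat.dvd_prime hp).1 hd).resolve_left fun h' => hx1 (orderOf_eq_one_iff.1 h')
  have hCx := BrauerReynolds.centralizer_mem_eq P hP hx hx1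
  obtain ⟨hconst, hB⟩ := principal_section hM ⟨1, by rw [pow_one, hxo]⟩
    (hasNormalPComplement_centralizer P hP hx hx1)
  have hw0 : w ≠ 0 := fun h => hpw (h ▸ dvd_zero p)
  rw [show Nat.card (Subgroup.centralizer ({x} : Set G)) = p * w by rw [hCx, hC],
    Nat.factorization_mul hp.pos.ne' hw0, Finsupp.add_apply, hp.factorization_self,
    Nat.factorization_eq_zero_of_not_dvd hpw, add_zero, pow_one] at hB
  have hin : ∀ χ ∈ principalBlock M G, ∑ y ∈ W, (χ : G → ℂ) (x * y) = (w : ℂ) * (χ : G → ℂ) x :=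
    fun χ hχ => by
      rw [Finset.sum_congr rfl fun y hy => hconst χ hχ y (hW y hy).1 (mem_regCen.1 hy).2,
        Finset.sum_const, hWc, nsmul_eq_mul]
  split_ifs with hφ
  · exact hin φ hφ
  set S : IrrCharacter G → ℂ := fun χ => ∑ y ∈ W, (χ : G → ℂ) (x * y) with hS
  have htot : ∑ χ : IrrCharacter G, S χ * conj (S χ) = ((p * w * w : ℕ) : ℂ) := by
    simp only [hS, map_sum, Finset.sum_mul, Finset.mul_sum]
    rw [Finset.sum_comm]
    simp only [Finset.sum_comm (s := (Finset.univ : Finset (IrrCharacter G))),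
      Char.column_orthogonality]
    have hin' : ∀ y ∈ W, ∑ y' ∈ W, (if IsConj (x * y) (x * y')
        then (Nat.card (Subgroup.centralizer ({x * y} : Set G)) : ℂ) else 0) = ((p * w : ℕ) : ℂ) := by
      intro y hy
      have hfib : ∑ y' ∈ W, (Finset.univ.filter fun g : G => g * (x * y) * g⁻¹ = x * y').card =
          p * w := by
        rw [← Finset.card_sigma, ← hC, Nat.card_eq_fintype_card, ← Finset.card_univ]
        have hfix : ∀ y' ∈ W, ∀ g : G, g * (x * y) * g⁻¹ = x * y' →
            g ∈ Subgroup.centralizer ((P : Subgroup G) : Set G) := fun y' hy' g hg => by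
          have h := congrArg (fun z => z ^ n) hg
          simp only [conj_pow, (hW y hy).2, (hW y' hy').2] at h
          rw [← hCx, Subgroup.mem_centralizer_singleton_iff]
          exact mul_inv_eq_iff_eq_mul.1 h
        refine Finset.card_bij' (fun q hq => ⟨q.2, hfix q.1 (Finset.mem_sigma.1 hq).1 q.2
            (Finset.mem_filter.1 (Finset.mem_sigma.1 hq).2).2⟩)
          (fun g _ => ⟨(g : G) * y * (g : G)⁻¹, (g : G)⟩) (fun q hq => Finset.mem_univ _)
          (fun g _ => ?_) (fun q hq => ?_) (fun g _ => rfl)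
        · have hg : (g : G) * x = x * (g : G) :=
            (Subgroup.mem_centralizer_iff.1 g.2 x hx).symm
          refine Finset.mem_sigma.2 ⟨mem_regCen.2 ⟨?_, ?_⟩, Finset.mem_filter.2 ⟨Finset.mem_univ _, ?_⟩⟩
          · exact mul_mem (mul_mem g.2 (mem_regCen.1 hy).1) (inv_mem g.2)
          · rw [show (g : G) * y * (g : G)⁻¹ = MulAut.conj (g : G) y from rfl, MulEquiv.orderOf_eq]
            exact (mem_regCen.1 hy).2
          · calc (g : G) * (x * y) * (g : G)⁻¹ = ((g : G) * x) * y * (g : G)⁻¹ := by group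
              _ = _ := by rw [hg]; group
        · obtain ⟨hq1, hq2⟩ := Finset.mem_sigma.1 hq
          have hg : q.2 * (x * y) * q.2⁻¹ = x * q.1 := (Finset.mem_filter.1 hq2).2
          have hgx : q.2 * x = x * q.2 := (Subgroup.mem_centralizer_iff.1 (hfix q.1 hq1 q.2 hg) x hx).symm
          have e : q.2 * y * q.2⁻¹ = q.1 := by
            refine mul_left_cancel (a := x) ?_
            rw [← hg]
            calc x * (q.2 * y * q.2⁻¹) = (x * q.2) * y * q.2⁻¹ := by group
              _ = _ := by rw [← hgx]; group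
          exact Sigma.ext e (heq_of_eq rfl)
      rw [← hfib, Nat.cast_sum]
      refine Finset.sum_congr rfl fun y' _ => ?_
      rw [CfsgLib.Transfer.card_conj_filter]
      split_ifs <;> simp
    rw [Finset.sum_comm]
    refine (Finset.sum_congr rfl fun y hy => (Eq.trans ?_ (hin' y hy))).trans ?_
    · exact Finset.sum_congr rfl fun y' _ => by split_ifs <;> rfl
    rw [Finset.sum_const, hWc, nsmul_eq_mul]
    push_cast
    ring
  have hblock : ∑ χ ∈ Finset.univ.filter (fun χ => χ ∈ principalBlock M G), S χ * conj (S χ) =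
      ((p * w * w : ℕ) : ℂ) := by
    rw [Finset.sum_congr rfl (g := fun χ : IrrCharacter G =>
        (w : ℂ) * w * ((χ : G → ℂ) x * conj ((χ : G → ℂ) x))) fun χ hχ => by
        simp only [hS]; rw [hin χ (Finset.mem_filter.1 hχ).2, map_mul, Complex.conj_natCast]; ring,
      ← Finset.mul_sum]
    rw [finsum_mem_eq_finite_toFinset_sum _ (Set.toFinite _),
      Finset.sum_congr (show (Set.toFinite (principalBlock M G)).toFinset =
        Finset.univ.filter (fun χ => χ ∈ principalBlock M G) by ext; simp) fun _ _ => rfl] at hB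
    rw [hB]
    push_cast
    ring
  rw [← Finset.sum_filter_add_sum_filter_not Finset.univ (fun χ => χ ∈ principalBlock M G), hblock,
    add_eq_left] at htot
  have hre : ∑ χ ∈ Finset.univ.filter (fun χ => ¬ χ ∈ principalBlock M G), Complex.normSq (S χ) = 0 := by
    have := congrArg Complex.re htot
    simpa [Complex.mul_conj] using this
  exact Complex.normSq_eq_zero.1 ((Finset.sum_eq_zero_iff_of_nonneg fun χ _ =>
    Complex.normSq_nonneg _).1 hre φ (Finset.mem_filter.2 ⟨Finset.mem_univ _, hφ⟩))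

open scoped Classical in
/-- Pairs of conjugates of an involution with product in `xW`: `p` times a square. -/
theorem card_pairs_eq_square [Fintype G] (P : Sylow p G) (hP : Nat.card P = p) (hp2 : p ≠ 2) {x : G}
    (hx : x ∈ (P : Subgroup G)) (hx1 : x ≠ 1) {w : ℕ}
    (hC : Nat.card (Subgroup.centralizer ((P : Subgroup G) : Set G)) = p * w) (hpw : ¬ p ∣ w)
    {g : G} (hg : g * g = 1) (K : Finset G) (hK : ∀ a, a ∈ K ↔ IsConj g a) :
    ∃ j : ℕ, (Odd ((Subgroup.centralizer ((P : Subgroup G) : Set G)).relIndex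
          (Subgroup.normalizer ((P : Subgroup G) : Set G))) → j = 0) ∧
      ((K ×ˢ K).filter fun q => x⁻¹ * (q.1 * q.2) ∈ regCen p (P : Subgroup G)).card = p * j * j := by
  have hp : p.Prime := hpf.out
  obtain ⟨hWc, n, hn, hW⟩ := regCen_facts P hP hx hx1 hC hpw
  set W := regCen p (P : Subgroup G) with hWdef
  set C := Subgroup.centralizer ((P : Subgroup G) : Set G) with hCdef
  have hxo : orderOf x = p := by
    have hd := Subgroup.orderOf_dvd_natCard (P : Subgroup G) hx
    rw [hP] at hd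
    exact ((Nat.dvd_prime hp).1 hd).resolve_left fun h' => hx1 (orderOf_eq_one_iff.1 h')
  have hCx := BrauerReynolds.centralizer_mem_eq P hP hx hx1
  have hKsq : ∀ a ∈ K, a * a = 1 := fun a ha => by
    obtain ⟨c, rfl⟩ := isConj_iff.1 ((hK a).1 ha)
    rw [show c * g * c⁻¹ * (c * g * c⁻¹) = c * (g * g) * c⁻¹ by group, hg]
    group
  set I := K.filter fun a => a * x * a⁻¹ = x⁻¹ with hI
  -- products landing in `x W` come from two inverting conjugates
  have hpair : ∀ a ∈ K, ∀ b ∈ K, x⁻¹ * (a * b) ∈ W → a ∈ I ∧ b ∈ I := by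
    intro a ha b hb hab
    have hz : (a * b) ^ n = x := by
      have h := (hW _ hab).2
      rwa [mul_inv_cancel_left] at h
    have hai : a⁻¹ = a := inv_eq_of_mul_eq_one_right (hKsq a ha)
    have hbi : b⁻¹ = b := inv_eq_of_mul_eq_one_right (hKsq b hb)
    have hrev : (b * a) ^ n = x⁻¹ := by
      rw [← hz, ← inv_pow]
      congr 1
      rw [mul_inv_rev, hai, hbi]
    refine ⟨Finset.mem_filter.2 ⟨ha, ?_⟩, Finset.mem_filter.2 ⟨hb, ?_⟩⟩
    · rw [← hrev, ← hz, ← conj_pow]
      congr 1
      calc a * (a * b) * a⁻¹ = a * a * b * a⁻¹ := by group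
        _ = b * a := by rw [hKsq a ha, one_mul, hai]
    · rw [← hrev, ← hz, ← conj_pow]
      congr 1
      rw [hbi]
      calc b * (a * b) * b = b * a * (b * b) := by group
        _ = b * a := by rw [hKsq b hb, mul_one]
  have hinv : ∀ a ∈ I, a * x * a⁻¹ = x⁻¹ := fun a ha => (Finset.mem_filter.1 ha).2
  -- the coset decomposition of the centraliser
  have hdec : ∀ z ∈ C, ∃ h < p, (x ^ h)⁻¹ * z ∈ W := by
    intro z hz
    have hinj : Set.InjOn (fun q : ℕ × G => x ^ q.1 * q.2) ↑((Finset.range p) ×ˢ W) := by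
      rintro ⟨h, y⟩ hq ⟨h', y'⟩ hq' he
      simp only [Finset.coe_product, Set.mem_prod, Finset.coe_range, Set.mem_Iio, Finset.mem_coe] at hq hq'
      simp only at he
      have hpow : ∀ (a : ℕ) (v : G), v ∈ W → (x ^ a * v) ^ n = x ^ a := fun a v hv => by
        obtain ⟨hc, hxv⟩ := hW v hv
        rw [(hc.pow_left a).mul_pow]
        have hv1 : v ^ n = 1 := by
          have h := hxv
          rw [hc.mul_pow, ← pow_mod_orderOf, hxo, hn, pow_one, mul_eq_left] at h
          exact h
        rw [hv1, mul_one, ← pow_mul, ← pow_mod_orderOf, hxo, Nat.mul_mod, hn, mul_one, Nat.mod_mod,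
          ← hxo, pow_mod_orderOf]
      have h1 : x ^ h = x ^ h' := by rw [← hpow h y hq.2, ← hpow h' y' hq'.2, he]
      have h2 : h = h' := by
        have := pow_eq_pow_iff_modEq.1 h1
        rw [hxo] at this
        exact Nat.ModEq.eq_of_lt_of_lt this hq.1 hq'.1
      subst h2
      exact Prod.ext rfl (mul_left_cancel he)
    set T := ((Finset.range p) ×ˢ W).image fun q : ℕ × G => x ^ q.1 * q.2 with hT
    have hsub : T ⊆ Finset.univ.filter (fun v => v ∈ C) := by
      intro v hv
      obtain ⟨q, hq, rfl⟩ := Finset.mem_image.1 hv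
      refine Finset.mem_filter.2 ⟨Finset.mem_univ _, mul_mem (Subgroup.pow_mem _ ?_ _)
        (mem_regCen.1 (Finset.mem_product.1 hq).2).1⟩
      rw [hCdef, ← hCx]
      exact Subgroup.mem_centralizer_singleton_iff.2 rfl
    have heq : T = Finset.univ.filter (fun v => v ∈ C) := by
      refine Finset.eq_of_subset_of_card_le hsub ?_
      rw [hT, Finset.card_image_of_injOn hinj, Finset.card_product, Finset.card_range, hWc,
        ← hC, Nat.card_eq_fintype_card, ← Fintype.card_subtype]
    have hzT : z ∈ T := heq ▸ Finset.mem_filter.2 ⟨Finset.mem_univ _, hz⟩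
    obtain ⟨⟨h, y⟩, hq, rfl⟩ := Finset.mem_image.1 hzT
    obtain ⟨hh, hy⟩ := Finset.mem_product.1 hq
    exact ⟨h, Finset.mem_range.1 hh, by rwa [inv_mul_cancel_left]⟩
  have huniq : ∀ h h' : ℕ, h < p → h' < p → ∀ z : G, (x ^ h)⁻¹ * z ∈ W → (x ^ h')⁻¹ * z ∈ W → h = h' := by
    intro h h' hh hh' z h1 h2
    have hpow : ∀ (a : ℕ) (v : G), v ∈ W → (x ^ a * v) ^ n = x ^ a := fun a v hv => by
      obtain ⟨hc, hxv⟩ := hW v hv
      rw [(hc.pow_left a).mul_pow]
      have hv1 : v ^ n = 1 := by
        have h := hxv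
        rw [hc.mul_pow, ← pow_mod_orderOf, hxo, hn, pow_one, mul_eq_left] at h
        exact h
      rw [hv1, mul_one, ← pow_mul, ← pow_mod_orderOf, hxo, Nat.mul_mod, hn, mul_one, Nat.mod_mod,
        ← hxo, pow_mod_orderOf]
    have e1 := hpow h _ h1
    have e2 := hpow h' _ h2
    rw [mul_inv_cancel_left] at e1 e2
    have h3 := pow_eq_pow_iff_modEq.1 (e1.symm.trans e2)
    rw [hxo] at h3
    exact Nat.ModEq.eq_of_lt_of_lt h3 hh hh'
  -- the fibres over the powers of `x` have one size
  set A : G → ℕ → Finset G := fun a h => I.filter fun b => (x ^ h)⁻¹ * (a * b) ∈ W with hA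
  have hcomm : ∀ a ∈ I, ∀ b ∈ I, a * b ∈ C := fun a ha b hb => by
    rw [hCdef, ← hCx, Subgroup.mem_centralizer_singleton_iff]
    have e : (a * b) * x * (a * b)⁻¹ = x := by
      rw [show a * b * x * (a * b)⁻¹ = a * (b * x * b⁻¹) * a⁻¹ by group, hinv b hb, ← conj_inv,
        hinv a ha, inv_inv]
    exact mul_inv_eq_iff_eq_mul.1 e
  obtain ⟨m, hm⟩ : ∃ m, p = 2 * m + 1 := (hp.odd_of_ne_two hp2)
  have hxp : x ^ p = 1 := by rw [← hxo, pow_orderOf_eq_one]
  have hmove : ∀ b ∈ I, x ^ m * b * (x ^ m)⁻¹ ∈ I ∧ x ^ m * b * (x ^ m)⁻¹ = x ^ (2 * m) * b := by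
    intro b hb
    obtain ⟨hbK, hbx⟩ := Finset.mem_filter.1 hb
    refine ⟨Finset.mem_filter.2 ⟨(hK _).2 (((hK b).1 hbK).trans (isConj_iff.2 ⟨x ^ m, rfl⟩)), ?_⟩, ?_⟩
    · rw [show x ^ m * b * (x ^ m)⁻¹ * x * (x ^ m * b * (x ^ m)⁻¹)⁻¹ =
          x ^ m * (b * ((x ^ m)⁻¹ * x * x ^ m) * b⁻¹) * (x ^ m)⁻¹ by group,
        show (x ^ m)⁻¹ * x * x ^ m = x by group, hbx]
      group
    · have h1 : b * (x ^ m)⁻¹ * b⁻¹ = x ^ m := by
        rw [← conj_inv, ← conj_pow, hbx, inv_pow, inv_inv]
      calc x ^ m * b * (x ^ m)⁻¹ = x ^ m * (b * (x ^ m)⁻¹ * b⁻¹) * b := by group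
        _ = x ^ (2 * m) * b := by rw [h1, ← pow_add]; congr 2; omega
  have hstep : ∀ a ∈ I, ∀ h, (A a h).card = (A a (h + 1)).card := by
    intro a ha h
    have hkey : ∀ b ∈ I, a * (x ^ m * b * (x ^ m)⁻¹) = x * (a * b) := fun b hb => by
      have h1 : a * x ^ (2 * m) * a⁻¹ = x := by
        rw [← conj_pow, hinv a ha, inv_pow, inv_eq_iff_mul_eq_one, ← pow_succ, ← hm, hxp]
      rw [(hmove b hb).2, ← mul_assoc, ← mul_assoc]
      congr 1
      calc a * x ^ (2 * m) = (a * x ^ (2 * m) * a⁻¹) * a := by group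
        _ = x * a := by rw [h1]
    refine Finset.card_bij' (fun b _ => x ^ m * b * (x ^ m)⁻¹) (fun b _ => (x ^ m)⁻¹ * b * x ^ m)
      (fun b hb => ?_) (fun b hb => ?_) (fun b _ => by group) (fun b _ => by group)
    · obtain ⟨hbI, hbW⟩ := Finset.mem_filter.1 hb
      refine Finset.mem_filter.2 ⟨(hmove b hbI).1, ?_⟩
      rw [hkey b hbI, pow_succ', mul_inv_rev, mul_assoc, inv_mul_cancel_left]
      exact hbW
    · obtain ⟨hbI, hbW⟩ := Finset.mem_filter.1 hb
      obtain ⟨hbK, hbx⟩ := Finset.mem_filter.1 hbI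
      have hb' : (x ^ m)⁻¹ * b * x ^ m ∈ I := by
        refine Finset.mem_filter.2 ⟨(hK _).2 (((hK b).1 hbK).trans
          (isConj_iff.2 ⟨(x ^ m)⁻¹, by group⟩)), ?_⟩
        rw [show (x ^ m)⁻¹ * b * x ^ m * x * ((x ^ m)⁻¹ * b * x ^ m)⁻¹ =
            (x ^ m)⁻¹ * (b * (x ^ m * x * (x ^ m)⁻¹) * b⁻¹) * x ^ m by group,
          show x ^ m * x * (x ^ m)⁻¹ = x by group, hbx]
        group
      refine Finset.mem_filter.2 ⟨hb', ?_⟩
      have h1 := hkey _ hb'
      rw [show x ^ m * ((x ^ m)⁻¹ * b * x ^ m) * (x ^ m)⁻¹ = b by group] at h1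
      rw [h1, pow_succ', mul_inv_rev, mul_assoc, inv_mul_cancel_left] at hbW
      exact hbW
  have hsum : ∀ a ∈ I, I.card = p * (A a 1).card := by
    intro a ha
    have hconstA : ∀ h, (A a h).card = (A a 1).card := by
      intro h
      have h0 : ∀ k, (A a k).card = (A a 0).card := fun k => by
        induction k with
        | zero => rfl
        | succ k ih => rw [← hstep a ha k, ih]
      rw [h0 h, h0 1]
    have hdisj : (↑(Finset.range p) : Set ℕ).PairwiseDisjoint (A a) := by
      intro h hh h' hh' hne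
      refine Finset.disjoint_left.2 fun b hb hb' => hne ?_
      exact huniq h h' (Finset.mem_range.1 hh) (Finset.mem_range.1 hh') _
        (Finset.mem_filter.1 hb).2 (Finset.mem_filter.1 hb').2
    calc I.card = ((Finset.range p).biUnion (A a)).card := by
          congr 1
          ext b
          simp only [Finset.mem_biUnion, Finset.mem_range, hA, Finset.mem_filter]
          refine ⟨fun hb => ?_, fun ⟨_, _, hb, _⟩ => hb⟩
          obtain ⟨h, hh, hW'⟩ := hdec _ (hcomm a ha b hb)
          exact ⟨h, hh, hb, hW'⟩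
      _ = ∑ h ∈ Finset.range p, (A a h).card := Finset.card_biUnion hdisj
      _ = p * (A a 1).card := by
          rw [Finset.sum_congr rfl fun h _ => hconstA h, Finset.sum_const, Finset.card_range,
            smul_eq_mul]
  refine ⟨I.card / p, fun hodd => ?_, ?_⟩
  · suffices hI0 : I = ∅ by rw [hI0, Finset.card_empty, Nat.zero_div]
    refine Finset.eq_empty_of_forall_notMem fun a ha => ?_
    obtain ⟨haK, hax⟩ := Finset.mem_filter.1 ha
    have haN : a ∈ Subgroup.normalizer ((P : Subgroup G) : Set G) := by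
      have hai : a⁻¹ = a := inv_eq_of_mul_eq_one_right (hKsq a haK)
      have hsub : ∀ z ∈ (P : Subgroup G), a * z * a⁻¹ ∈ (P : Subgroup G) := fun z hz => by
        rw [RowInvolution.invert_all P hP hx hx1 hax z hz]
        exact inv_mem hz
      refine Subgroup.mem_normalizer_iff.2 fun z => ⟨hsub z, fun hz => ?_⟩
      have h := hsub _ hz
      rwa [hai, show a * (a * z * a) * a = (a * a) * z * (a * a) by group, hKsq a haK, one_mul,
        mul_one] at h
    set N := Subgroup.normalizer ((P : Subgroup G) : Set G)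
    obtain ⟨x', ε', _, _, _, hker⟩ := exists_prime_sylow_data P hP
    have hnorm : (C.subgroupOf N).Normal := hker ▸ MonoidHom.normal_ker ε'
    have hmem := Subgroup.pow_index_mem (C.subgroupOf N) (⟨a, haN⟩ : N)
    obtain ⟨k, hk⟩ := hodd
    change a ^ (C.relIndex N) ∈ C at hmem
    rw [hk, pow_succ, pow_mul, pow_two, hKsq a haK, one_pow, one_mul] at hmem
    have h := Subgroup.mem_centralizer_iff.1 hmem x hx
    rw [← h, mul_inv_cancel_right, eq_inv_iff_mul_eq_one, ← pow_two, ← orderOf_dvd_iff_pow_eq_one,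
      hxo] at hax
    exact hp2 ((Nat.prime_dvd_prime_iff_eq hp Nat.prime_two).1 hax)
  · have hsplit : ((K ×ˢ K).filter fun q => x⁻¹ * (q.1 * q.2) ∈ W).card = ∑ a ∈ I, (A a 1).card := by
      rw [← Finset.card_sigma]
      refine Finset.card_bij' (fun q _ => ⟨q.1, q.2⟩) (fun q _ => (q.1, q.2)) (fun q hq => ?_)
        (fun q hq => ?_) (fun q _ => rfl) (fun q _ => rfl)
      · obtain ⟨hq1, hq2⟩ := Finset.mem_filter.1 hq
        obtain ⟨h1, h2⟩ := hpair _ (Finset.mem_product.1 hq1).1 _ (Finset.mem_product.1 hq1).2 hq2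
        exact Finset.mem_sigma.2 ⟨h1, Finset.mem_filter.2 ⟨h2, by rwa [pow_one]⟩⟩
      · obtain ⟨h1, h2⟩ := Finset.mem_sigma.1 hq
        obtain ⟨h2, h3⟩ := Finset.mem_filter.1 h2
        rw [pow_one] at h3
        exact Finset.mem_filter.2 ⟨Finset.mem_product.2
          ⟨(Finset.mem_filter.1 h1).1, (Finset.mem_filter.1 h2).1⟩, h3⟩
    rw [hsplit, Finset.sum_congr rfl (g := fun _ => I.card / p) fun a ha => by
      rw [hsum a ha, Nat.mul_div_cancel_left _ hp.pos], Finset.sum_const, smul_eq_mul]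
    rcases I.eq_empty_or_nonempty with h0 | ⟨a, ha⟩
    · simp [h0]
    · rw [hsum a ha, Nat.mul_div_cancel_left _ hp.pos]

open scoped Classical in
/-- The sum over the block at an involution. -/
theorem block_pairs [Fintype G] {M : Ideal AlgInt} (hM : IsPModular p M) (P : Sylow p G)
    (hP : Nat.card P = p) (hp2 : p ≠ 2) (B : Finset (IrrCharacter G))
    (hB : ∀ φ, φ ∈ B ↔ φ ∈ principalBlock M G) {x : G} (hx : x ∈ (P : Subgroup G)) (hx1 : x ≠ 1)
    {w : ℕ} (hC : Nat.card (Subgroup.centralizer ((P : Subgroup G) : Set G)) = p * w)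
    (hpw : ¬ p ∣ w) {g : G} (hg : g * g = 1) :
    ∃ j : ℕ, (Odd ((Subgroup.centralizer ((P : Subgroup G) : Set G)).relIndex
          (Subgroup.normalizer ((P : Subgroup G) : Set G))) → j = 0) ∧
      (w : ℂ) * ∑ φ ∈ B, (Nat.card G : ℂ) * (φ : G → ℂ) g * (φ : G → ℂ) g / (φ : G → ℂ) 1 *
          conj ((φ : G → ℂ) x) =
        ((Nat.card (Subgroup.centralizer ({g} : Set G)) : ℕ) : ℂ) *
          (Nat.card (Subgroup.centralizer ({g} : Set G)) : ℂ) * ((p * j * j : ℕ) : ℂ) := by
  have := Fintype.ofFinite (IrrCharacter G)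
  set c := Nat.card (Subgroup.centralizer ({g} : Set G)) with hc
  set K : Finset G := Finset.univ.filter fun a => IsConj g a with hK
  obtain ⟨j, hj, hcount⟩ := card_pairs_eq_square P hP hp2 hx hx1 hC hpw hg K (fun a => by simp [hK])
  refine ⟨j, hj, ?_⟩
  rw [← hcount]
  set W := regCen p (P : Subgroup G) with hW
  set I := (K ×ˢ K).filter fun q => x⁻¹ * (q.1 * q.2) ∈ W with hI
  set T : G → Finset (G × G) := fun z => Finset.univ.filter fun q =>
    (q.1 * g * q.1⁻¹) * (q.2 * g * q.2⁻¹) = z with hT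
  have h1 : ∀ y ∈ W, ((T (x * y)).card : ℂ) = ∑ φ : IrrCharacter G,
      (Nat.card G : ℂ) * (φ : G → ℂ) g * (φ : G → ℂ) g / (φ : G → ℂ) 1 *
        conj ((φ : G → ℂ) (x * y)) := by
    intro y _
    have e1 : (T (x * y)).card = ∑ s : G,
        (Finset.univ.filter fun a : G => a * (g * (s * g * s⁻¹)) * a⁻¹ = x * y).card := by
      rw [← Finset.card_sigma]
      refine Finset.card_bij' (fun q _ => ⟨q.1⁻¹ * q.2, q.1⟩) (fun q _ => (q.2, q.2 * q.1))
        (fun q hq => ?_) (fun q hq => ?_) (fun q _ => by simp) (fun q _ => by simp)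
      · refine Finset.mem_sigma.2 ⟨Finset.mem_univ _, Finset.mem_filter.2 ⟨Finset.mem_univ _, ?_⟩⟩
        rw [← (Finset.mem_filter.1 hq).2]; group
      · refine Finset.mem_filter.2 ⟨Finset.mem_univ _, ?_⟩
        rw [← (Finset.mem_filter.1 (Finset.mem_sigma.1 hq).2).2]; group
    rw [e1, Nat.cast_sum, Finset.sum_congr rfl (g := fun s => ∑ φ : IrrCharacter G,
      (φ : G → ℂ) (g * (s * g * s⁻¹)) * conj ((φ : G → ℂ) (x * y))) fun s _ => by
        rw [Char.column_orthogonality, CfsgLib.Transfer.card_conj_filter]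
        split_ifs <;> simp, Finset.sum_comm]
    refine Finset.sum_congr rfl fun φ _ => ?_
    rw [← Finset.sum_mul, BlockB.sum_irr_mul_conj]
  have h2 : ∑ y ∈ W, (T (x * y)).card = c * c * I.card := by
    rw [← Finset.card_sigma, mul_comm, Finset.card_eq_sum_card_fiberwise
      (f := fun q : (Σ _ : G, G × G) => (q.2.1 * g * q.2.1⁻¹, q.2.2 * g * q.2.2⁻¹)) (t := I) fun q hq => by
        obtain ⟨hy, hq2⟩ := Finset.mem_sigma.1 hq
        refine Finset.mem_filter.2 ⟨Finset.mem_product.2 ⟨?_, ?_⟩, ?_⟩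
        · simp [hK, isConj_iff]
        · simp [hK, isConj_iff]
        · rw [(Finset.mem_filter.1 hq2).2, inv_mul_cancel_left]
          exact hy]
    rw [Finset.sum_congr rfl (g := fun _ => c * c) fun q hq => ?_, Finset.sum_const, smul_eq_mul]
    obtain ⟨hq1, hq2⟩ := Finset.mem_filter.1 hq
    obtain ⟨ha, hb⟩ := Finset.mem_product.1 hq1
    simp only [hK, Finset.mem_filter, Finset.mem_univ, true_and] at ha hb
    calc _ = ((Finset.univ.filter fun a : G => a * g * a⁻¹ = q.1) ×ˢ
          (Finset.univ.filter fun a : G => a * g * a⁻¹ = q.2)).card := by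
          refine Finset.card_bij' (fun z _ => z.2) (fun z _ => ⟨x⁻¹ * (q.1 * q.2), z⟩)
            (fun z hz => ?_) (fun z hz => ?_) (fun z hz => ?_) (fun z _ => rfl)
          · have h := (Finset.mem_filter.1 hz).2
            simp [← h]
          · simp only [Finset.mem_product, Finset.mem_filter, Finset.mem_univ, true_and] at hz
            refine Finset.mem_filter.2 ⟨Finset.mem_sigma.2 ⟨hq2, Finset.mem_filter.2
              ⟨Finset.mem_univ _, ?_⟩⟩, ?_⟩
            · rw [hz.1, hz.2, mul_inv_cancel_left]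
            · exact Prod.ext hz.1 hz.2
          · obtain ⟨hz1, hz2⟩ := Finset.mem_filter.1 hz
            have h3 := (Finset.mem_filter.1 (Finset.mem_sigma.1 hz1).2).2
            refine Sigma.ext ?_ (heq_of_eq rfl)
            simp only [← hz2, h3, inv_mul_cancel_left]
      _ = c * c := by
          rw [Finset.card_product, CfsgLib.Transfer.card_conj_filter,
            CfsgLib.Transfer.card_conj_filter, if_pos ha, if_pos hb]
  have h3 : ((c * c * I.card : ℕ) : ℂ) = (w : ℂ) * ∑ φ ∈ B, (Nat.card G : ℂ) * (φ : G → ℂ) g *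
      (φ : G → ℂ) g / (φ : G → ℂ) 1 * conj ((φ : G → ℂ) x) := by
    rw [← h2, Nat.cast_sum, Finset.sum_congr rfl h1, Finset.sum_comm, Finset.mul_sum,
      ← Finset.sum_subset (Finset.subset_univ B) fun φ _ hφ => by
        rw [← Finset.mul_sum, ← map_sum, sum_section_eq hM P hP hx hx1 hC hpw,
          if_neg fun h => hφ ((hB φ).2 h), map_zero, mul_zero]]
    refine Finset.sum_congr rfl fun φ hφ => ?_
    rw [← Finset.mul_sum, ← map_sum, sum_section_eq hM P hP hx hx1 hC hpw, if_pos ((hB φ).1 hφ),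
      map_mul, Complex.conj_natCast]
    ring
  rw [← h3]
  push_cast
  ring

end CfsgLib.Recog.OrderM22
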