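import Cfsg.Agent.Lib.Recog.OrderM12.Sieve

/-!
# The rows of a principal block at an involution centralising the Sylow subgroup

For a Sylow subgroup `P` of prime order and an involution `k` centralising it, the values at `k` of the rows of
the principal block are congruent to the degrees, and they pass a depth-first search.
-/

set_option autoImplicit false

namespace CfsgLib.Recog.OrderM22

open Cfsg CfsgLib CfsgLib.Block CfsgLib.ClassK CfsgLib.ClassK.RowSieve CfsgLib.ClassK.RowInvolution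
open CfsgLib.Recog.OrderM12 (admissible dvd_sub_of_commute dvd_index_mul sum_sq_le)

universe u

/-- A row: degree, sign, value at the involution. -/
def trips (n M p B c : ℕ) : List ((ℕ × Bool) × ℤ) :=
  (cands n M p B false fun _ => true).flatMap fun a =>
    ((qRange a.1).filter fun v => admissible n c a.1 v && decide ((v - (a.1 : ℤ)) % (p : ℤ) = 0)).map
      fun v => (a, v)

/-- The closing test: `D`, `S`, `A`, `Q` are the signed degrees, squared degrees, signed values and squared
values. -/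
def dfsFin (n e p t c : ℕ) (X : List ℕ) (D : ℤ) (S : ℕ) (A Q : ℤ) : Bool :=
  if t = 1 then decide (D = 0) && decide (A = 0)
  else X.any fun d => decide (S + t * (d * d) ≤ n) && decide (Q + (t : ℤ) * (A * A) ≤ (c : ℤ)) &&
    (decide (D = (d : ℤ)) && decide (d % p = e % p) && (qRange d).contains A && admissible n c d A ||
      decide (D = -(d : ℤ)) && decide ((d + e) % p = 0) && (qRange d).contains (-A) &&
        admissible n c d (-A))

/-- Multisets of `k` rows with bounded sums of squares. -/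
def dfs (n : ℕ) (c : ℤ) (fin : ℤ → ℕ → ℤ → ℤ → Bool) :
    List ((ℕ × Bool) × ℤ) → ℕ → ℤ → ℕ → ℤ → ℤ → Bool
  | [], k, D, S, A, Q => decide (k = 0) && fin D S A Q
  | a :: as, k, D, S, A, Q =>
    if k = 0 then fin D S A Q else (List.range (k + 1)).any fun j =>
      decide (S + j * (a.1.1 * a.1.1) ≤ n) && decide (Q + (j : ℤ) * (a.2 * a.2) ≤ c) &&
        dfs n c fin as (k - j) (D + (j : ℤ) * (sgn a.1 * (a.1.1 : ℤ))) (S + j * (a.1.1 * a.1.1))
          (A + (j : ℤ) * (sgn a.1 * a.2)) (Q + (j : ℤ) * (a.2 * a.2))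

/-- Can the block with Sylow count `np` and automiser order `e` exist next to a central involution with
centraliser of order `c`? -/
def rowsAt (n np e p B c : ℕ) : Bool :=
  let t := (p - 1) / e
  let X := (List.range B).filter (excOK n (np * e) p false fun _ => true)
  dfs n c (dfsFin n e p t c X) (trips n (np * e) p B c) (if t = 1 then p - 1 else e - 1) 1 1 1 1

theorem dfs_sound {n : ℕ} {c : ℤ} {fin : ℤ → ℕ → ℤ → ℤ → Bool} {ι : Type*}
    (f : ι → (ℕ × Bool) × ℤ) :
    ∀ (L : List ((ℕ × Bool) × ℤ)) (s : Finset ι) (D : ℤ) (S : ℕ) (A Q : ℤ), (∀ i ∈ s, f i ∈ L) →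
      S + ∑ i ∈ s, (f i).1.1 * (f i).1.1 ≤ n → Q + ∑ i ∈ s, (f i).2 * (f i).2 ≤ c →
      fin (D + ∑ i ∈ s, sgn (f i).1 * ((f i).1.1 : ℤ)) (S + ∑ i ∈ s, (f i).1.1 * (f i).1.1)
        (A + ∑ i ∈ s, sgn (f i).1 * (f i).2) (Q + ∑ i ∈ s, (f i).2 * (f i).2) = true →
      dfs n c fin L s.card D S A Q = true := by
  classical
  intro L
  induction L with
  | nil =>
    intro s D S A Q hs _ _ h
    obtain rfl : s = ∅ := Finset.eq_empty_of_forall_notMem fun i hi => by simpa using hs i hi
    simpa [dfs] using h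
  | cons a as ih =>
    intro s D S A Q hs hS hQ h
    rw [dfs]
    split_ifs with hk
    · obtain rfl := Finset.card_eq_zero.1 hk
      simpa using h
    set s₁ := s.filter (fun i => f i = a)
    set s₂ := s.filter (fun i => ¬ f i = a)
    have hcard : s₁.card + s₂.card = s.card := Finset.card_filter_add_card_filter_not _
    have hN : ∀ g : (ℕ × Bool) × ℤ → ℕ,
        ∑ i ∈ s, g (f i) = s₁.card * g a + ∑ i ∈ s₂, g (f i) := fun g => by
      rw [← Finset.sum_filter_add_sum_filter_not s (fun i => f i = a)]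
      congr 1
      rw [Finset.sum_congr rfl (g := fun _ => g a) fun i hi => by rw [(Finset.mem_filter.1 hi).2],
        Finset.sum_const, smul_eq_mul]
    have hZ : ∀ g : (ℕ × Bool) × ℤ → ℤ,
        ∑ i ∈ s, g (f i) = (s₁.card : ℤ) * g a + ∑ i ∈ s₂, g (f i) := fun g => by
      rw [← Finset.sum_filter_add_sum_filter_not s (fun i => f i = a)]
      congr 1
      rw [Finset.sum_congr rfl (g := fun _ => g a) fun i hi => by rw [(Finset.mem_filter.1 hi).2],
        Finset.sum_const, nsmul_eq_mul]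
    rw [hN fun x => x.1.1 * x.1.1] at hS h
    rw [hZ fun x => x.2 * x.2] at hQ h
    rw [hZ fun x => sgn x.1 * (x.1.1 : ℤ), hZ fun x => sgn x.1 * x.2] at h
    have h2 : (0 : ℤ) ≤ ∑ i ∈ s₂, (f i).2 * (f i).2 :=
      Finset.sum_nonneg fun i _ => mul_self_nonneg _
    rw [List.any_eq_true]
    refine ⟨s₁.card, List.mem_range.2 (by omega), ?_⟩
    simp only [Bool.and_eq_true, decide_eq_true_eq]
    refine ⟨⟨by omega, by linarith⟩, ?_⟩
    rw [show s.card - s₁.card = s₂.card by omega]
    refine ih s₂ _ _ _ _ (fun i hi => ?_) (by omega) (by linarith) ?_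
    · obtain ⟨hi, hne⟩ := Finset.mem_filter.1 hi
      exact (List.mem_cons.1 (hs i hi)).resolve_left hne
    · simpa only [add_assoc] using h

variable {G : Type u} [Group G] [Finite G] {p : ℕ} [hpf : Fact p.Prime]

/-- An integral value of a row at a commuting `p`-regular element is congruent to the degree. -/
theorem dvd_value_sub {M : Ideal AlgInt} (hM : IsPModular p M) (P : Sylow p G) (hP : Nat.card P = p)
    {e t d₀ : ℕ} {σ : ℤ} {CF YF : Finset (IrrCharacter G)} {ε : IrrCharacter G → ℤ}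
    (D : Rows M P e t d₀ σ CF YF ε) {φ : IrrCharacter G} (hφ : φ ∈ CF) {g : G}
    (hgC : g ∈ Subgroup.centralizer ((P : Subgroup G) : Set G)) (hgr : ¬ p ∣ orderOf g) {a : ℤ}
    (ha : (φ : G → ℂ) g = a) : (p : ℤ) ∣ a - (charDegree (φ : G → ℂ) : ℤ) := by
  obtain ⟨x, hx, hx1⟩ : ∃ x ∈ (P : Subgroup G), x ≠ 1 := by
    refine Subgroup.bot_or_exists_ne_one _ |>.resolve_left fun h => ?_
    rw [h, Subgroup.card_bot] at hP
    exact hpf.out.ne_one hP.symm
  have hxo : orderOf x = p := by
    have hd := Subgroup.orderOf_dvd_natCard (P : Subgroup G) hx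
    rw [hP] at hd
    exact ((Nat.dvd_prime hpf.out).1 hd).resolve_left fun h' => hx1 (orderOf_eq_one_iff.1 h')
  have hc : Commute g x := (Subgroup.mem_centralizer_iff.1 hgC x hx).symm
  have h1 : (p : ℤ) ∣ a - ε φ := by
    refine dvd_sub_of_commute (p := p) (Char.irr_isCharacter φ.2) hc hxo hgr ha fun j hj => ?_
    have hxj : x ^ j ∈ (P : Subgroup G) := pow_mem hx j
    have hxj1 : x ^ j ≠ 1 := fun h => hj (hxo ▸ orderOf_dvd_of_pow_eq_one h)
    have hxjo : orderOf (x ^ j) = p := by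
      rw [Nat.Coprime.orderOf_pow (by rw [hxo]; exact (hpf.out.coprime_iff_not_dvd).2 hj), hxo]
    rw [(hc.pow_right j).eq, (principal_section hM ⟨1, by rw [pow_one, hxjo]⟩
      (hasNormalPComplement_centralizer P hP hxj hxj1)).1 φ ((D.mem φ).2 (Or.inl hφ)) g
      (hc.pow_right j).symm hgr]
    exact D.CF_val φ hφ _ hxj hxj1
  have e' : a - (charDegree (φ : G → ℂ) : ℤ) = (a - ε φ) + (ε φ - (charDegree (φ : G → ℂ) : ℤ)) := by
    ring
  rw [e']
  exact dvd_add h1 (D.CF_mod φ hφ)

/-- The principal block next to an involution centralising `P` passes the search. -/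
theorem rowsAt_of_invol [IsSimpleGroup G] (hG : ¬ IsMulCommutative G) {n B : ℕ}
    (hn : Nat.card G = n) (hB : n < B * B) (P : Sylow p G) (hP : Nat.card P = p) (hp2 : p ≠ 2)
    {k : G} (hk : orderOf k = 2) (hkC : k ∈ Subgroup.centralizer ((P : Subgroup G) : Set G)) :
    rowsAt n (Nat.card (Sylow p G)) ((Subgroup.centralizer ((P : Subgroup G) : Set G)).relIndex
      (Subgroup.normalizer ((P : Subgroup G) : Set G))) p B
      (Nat.card (Subgroup.centralizer ({k} : Set G))) = true := by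
  classical
  subst hn
  have hp : p.Prime := hpf.out
  have := Fintype.ofFinite G
  have := Fintype.ofFinite (IrrCharacter G)
  have hperf := CfsgLib.Transfer.commutator_eq_top_of_simple hG
  obtain ⟨M, hM⟩ := BlockB.exists_isPModular (p := p) hp
  have := isPrime_of_pmodular hM
  obtain ⟨e, t, d₀, σ, CF, YF, ε, D⟩ := exists_rows hperf hM P hP
  rw [D.e_eq]
  set np := Nat.card (Sylow p G) with hnp
  set c := Nat.card (Subgroup.centralizer ({k} : Set G)) with hc
  have he2 := D.e_two
  have hte := D.hte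
  have hdiv : (p - 1) / e = t := by
    rw [show p - 1 = t * e by omega, Nat.mul_div_cancel _ (by omega)]
  have hk1 : k ≠ 1 := fun h => by rw [h, orderOf_one] at hk; norm_num at hk
  have hkr : ¬ p ∣ orderOf k := by
    rw [hk]
    exact fun h => hp2 ((Nat.prime_dvd_prime_iff_eq hp Nat.prime_two).1 h)
  have hcen : k ∉ Subgroup.center G := fun hmem => by
    rcases IsSimpleGroup.eq_bot_or_eq_top_of_normal (Subgroup.center G) inferInstance with h | h
    · rw [h, Subgroup.mem_bot] at hmem; exact hk1 hmem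
    · exact hG ⟨⟨fun a b => Subgroup.mem_center_iff.1 (h.ge (Subgroup.mem_top b)) a⟩⟩
  obtain ⟨x, hx, hx1⟩ : ∃ x ∈ (P : Subgroup G), x ≠ 1 := by
    refine Subgroup.bot_or_exists_ne_one _ |>.resolve_left fun h => ?_
    rw [h, Subgroup.card_bot] at hP
    exact hp.ne_one hP.symm
  have hidx : (Subgroup.centralizer ({x} : Set G)).index = np * e := by
    rw [BrauerReynolds.centralizer_mem_eq P hP hx hx1, BrauerReynolds.index_centralizer, D.e_eq, hnp,
      mul_comm]
  let one : IrrCharacter G := ⟨fun _ => 1, Char.isIrrCharacter_one⟩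
  have hsumsq : ∑ φ : IrrCharacter G, charDegree (φ : G → ℂ) * charDegree (φ : G → ℂ) =
      Nat.card G := by
    have h := CfsgLib.Char.sum_irr_sq (G := G)
    simp only [← BlockB.irr_degree_cast, pow_two] at h
    exact_mod_cast h
  have hlt : ∀ φ : IrrCharacter G, charDegree (φ : G → ℂ) < B := fun φ => by
    by_contra hle
    push Not at hle
    have h := Nat.mul_le_mul hle hle
    have h' : charDegree (φ : G → ℂ) * charDegree (φ : G → ℂ) ≤ Nat.card G := by
      rw [← hsumsq]
      exact Finset.single_le_sum (f := fun φ : IrrCharacter G =>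
        charDegree (φ : G → ℂ) * charDegree (φ : G → ℂ)) (fun _ _ => Nat.zero_le _)
        (Finset.mem_univ φ)
    omega
  have hdeg2 : ∀ φ : IrrCharacter G, φ ≠ one → 2 ≤ charDegree (φ : G → ℂ) := fun φ hφ => by
    have h0 : 0 < charDegree (φ : G → ℂ) := BlockB.irr_degree_pos φ
    by_contra h
    refine hφ (Subtype.ext (BrauerReynolds.eq_one_of_degree_one hperf φ ?_))
    rw [← BlockB.irr_degree_cast φ, show charDegree (φ : G → ℂ) = 1 by omega, Nat.cast_one]
  have hq : ∀ φ : IrrCharacter G, ∃ a : ℤ, (φ : G → ℂ) k = a ∧ (φ ≠ one →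
      a ∈ qRange (charDegree (φ : G → ℂ)) ∧
        admissible (Nat.card G) c (charDegree (φ : G → ℂ)) a = true) := fun φ => by
    by_cases h : φ = one
    · exact ⟨1, by rw [h]; simp [one], fun h' => absurd h h'⟩
    obtain ⟨a, ha, hval⟩ := exists_mem_qRange hperf φ hk
      (fun g hg => CfsgLib.Transfer.irr_apply_ne_apply_one φ (fun h' => h (Subtype.ext h')) hg) hcen
    refine ⟨a, hval, fun _ => ⟨ha, ?_⟩⟩
    rw [admissible, Bool.and_eq_true, decide_eq_true_eq, decide_eq_true_eq]
    refine ⟨?_, Int.emod_eq_zero_of_dvd ?_⟩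
    · simpa [-Nat.card_eq_fintype_card, hc] using sum_sq_le k {φ} (fun _ => a) fun ψ hψ => by
        rw [Finset.mem_singleton.1 hψ]; exact hval
    · have hi : (Subgroup.centralizer ({k} : Set G)).index = Nat.card G / c := by
        rw [← (Subgroup.centralizer ({k} : Set G)).index_mul_card, Nat.mul_div_cancel _ Nat.card_pos]
      rw [← hi]
      exact dvd_index_mul φ hval
  choose q hqval hqmem using hq
  let f : IrrCharacter G → (ℕ × Bool) × ℤ := fun φ =>
    ((charDegree (φ : G → ℂ), decide (ε φ = 1)), q φ)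
  have hsgn : ∀ φ ∈ CF, sgn (f φ).1 = ε φ := fun φ hφ => by
    rcases D.eps_pm φ hφ with h | h <;> simp [sgn, f, h]
  have hcand : ∀ φ ∈ CF.erase one, f φ ∈ trips (Nat.card G) (np * e) p B c := by
    intro φ hφ
    obtain ⟨hφ1, hφC⟩ := Finset.mem_erase.1 hφ
    obtain ⟨hqR, hqA⟩ := hqmem φ hφ1
    set d := charDegree (φ : G → ℂ) with hd
    have hd2 : 2 ≤ d := hdeg2 φ hφ1
    have hdn : Nat.card G % d = 0 := Nat.mod_eq_zero_of_dvd (BlockB.irr_degree_dvd_card φ)
    have hM' : (np * e) % d = 0 := Nat.mod_eq_zero_of_dvd (hidx ▸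
      BrauerReynolds.dvd_of_omega_sum {φ} id x (BlockB.irr_degree_pos φ)
        (fun j hj => by rw [Finset.mem_singleton.1 hj]; exact (BlockB.irr_degree_cast φ).symm)
        (D.eps_pm φ hφC) (by rw [Finset.sum_singleton]; exact D.CF_val φ hφC x hx hx1))
    refine List.mem_flatMap.2 ⟨(f φ).1, ?_, List.mem_map.2 ⟨q φ, List.mem_filter.2 ⟨hqR, ?_⟩, rfl⟩⟩
    swap
    · rw [Bool.and_eq_true, decide_eq_true_eq]
      exact ⟨hqA, Int.emod_eq_zero_of_dvd (dvd_value_sub hM P hP D hφC hkC hkr (hqval φ))⟩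
    have hmod := D.CF_mod φ hφC
    rw [← hd] at hmod
    simp only [cands, List.mem_filter, List.mem_append, List.mem_map, List.mem_range]
    refine ⟨?_, ?_⟩
    · rcases D.eps_pm φ hφC with h | h
      · exact Or.inl ⟨d, hlt φ, Prod.ext rfl (by simp [f, h])⟩
      · exact Or.inr ⟨d, hlt φ, Prod.ext rfl (by simp [f, h])⟩
    · rcases D.eps_pm φ hφC with h | h <;> rw [h] at hmod
      · have hd1 : d % p = 1 := by
          have h1 : (d : ℤ) % p = (1 : ℤ) % p := Int.modEq_iff_dvd.2 hmod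
          rw [Int.emod_eq_of_lt zero_le_one (by exact_mod_cast hp.one_lt)] at h1
          exact_mod_cast h1
        simp [-Nat.card_eq_fintype_card, candOK, f, h, ← hd, hd2, hM', hd1, hdn]
      · have hd1 : d % p = p - 1 := by
          have h1 : (d : ℤ) % p = (-1 : ℤ) % p := Int.modEq_iff_dvd.2 hmod
          have hp1 : (-1 : ℤ) % p = (p : ℤ) - 1 := by
            rw [show (-1 : ℤ) = ((p : ℤ) - 1) + (p : ℤ) * (-1) by ring, Int.add_mul_emod_self_left,
              Int.emod_eq_of_lt (by have := hp.one_lt; omega) (by omega)]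
          rw [hp1] at h1
          have h1' : ((d % p : ℕ) : ℤ) = (p : ℤ) - 1 := by push_cast; exact h1
          omega
        simp [-Nat.card_eq_fintype_card, candOK, f, h, ← hd, hd2, hM', hd1, hdn]
  have hdone : charDegree (one : G → ℂ) = 1 := by
    have h := BlockB.irr_degree_cast one
    simp only [one] at h
    exact_mod_cast h
  have hqone : q one = 1 := by
    have h := hqval one
    simp only [one] at h
    exact_mod_cast h.symm
  have hone : ε one = 1 := D.eps_one
  have hsplit : ∀ g : IrrCharacter G → ℤ,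
      ∑ φ ∈ CF, g φ = g one + ∑ φ ∈ CF.erase one, g φ := fun g =>
    (Finset.add_sum_erase _ _ D.one_mem).symm
  have hD : 1 + ∑ φ ∈ CF.erase one, sgn (f φ).1 * ((f φ).1.1 : ℤ) =
      if t = 1 then 0 else σ * d₀ := by
    rw [← D.deg_eq, hsplit, hone, hdone, Nat.cast_one, one_mul]
    exact congrArg _ (Finset.sum_congr rfl fun φ hφ => by rw [hsgn φ (Finset.mem_of_mem_erase hφ)])
  have hA : 1 + ∑ φ ∈ CF.erase one, sgn (f φ).1 * (f φ).2 = ∑ φ ∈ CF, ε φ * q φ := by
    rw [hsplit, hone, hqone, one_mul]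
    exact congrArg _ (Finset.sum_congr rfl fun φ hφ => by rw [hsgn φ (Finset.mem_of_mem_erase hφ)])
  have htot : 1 + ∑ φ ∈ CF.erase one, (f φ).1.1 * (f φ).1.1 +
      (if t = 1 then 0 else t * (d₀ * d₀)) ≤ Nat.card G := by
    rw [← hsumsq]
    refine le_trans (le_of_eq ?_) (Finset.sum_le_univ_sum_of_nonneg
      (s := CF ∪ YF) fun _ => Nat.zero_le _)
    rw [Finset.sum_union D.disj, ← Finset.add_sum_erase _ _ D.one_mem, hdone,
      Finset.sum_congr rfl (g := fun _ => d₀ * d₀) (s₁ := YF) fun φ hφ => by rw [D.YF_deg φ hφ],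
      Finset.sum_const, D.card_YF, smul_eq_mul]
    split_ifs <;> simp [f, one]
  have hnormCF : 1 + ∑ φ ∈ CF.erase one, (f φ).2 * (f φ).2 = ∑ φ ∈ CF, q φ * q φ := by
    rw [hsplit, hqone, one_mul]
  have hQ1 : 1 + ∑ φ ∈ CF.erase one, (f φ).2 * (f φ).2 ≤ (c : ℤ) := by
    rw [hnormCF]
    exact sum_sq_le k CF q fun φ _ => hqval φ
  have hcard : (CF.erase one).card = if t = 1 then p - 1 else e - 1 := by
    rw [Finset.card_erase_of_mem D.one_mem, D.card_CF]
    split_ifs <;> rfl
  simp only [rowsAt, hdiv]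
  rw [← hcard]
  refine dfs_sound f _ (CF.erase one) 1 1 1 1 hcand (by omega) hQ1 ?_
  rw [hD, hA]
  by_cases ht : t = 1
  · simp only [dfsFin, ht, if_true, Bool.and_eq_true, decide_eq_true_eq, true_and]
    have h := D.relation_one ht k hkr
    rw [Finset.sum_congr rfl fun φ _ => by rw [hqval φ]] at h
    exact_mod_cast h
  rw [if_neg ht] at htot ⊢
  simp only [dfsFin, if_neg ht, List.any_eq_true]
  obtain ⟨η, hη⟩ : YF.Nonempty := Finset.card_pos.1 (by
    rw [D.card_YF, if_neg ht]
    rcases Nat.eq_zero_or_pos t with h0 | h0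
    · rw [h0, zero_mul, zero_add] at hte; exact absurd hte.symm hp.ne_one
    · exact h0)
  have hη1 : η ≠ one := fun h =>
    Finset.disjoint_left.1 D.disj D.one_mem (h ▸ hη : one ∈ YF)
  have hd0 : charDegree (η : G → ℂ) = d₀ := D.YF_deg η hη
  have hM0 : (np * e) % d₀ = 0 := Nat.mod_eq_zero_of_dvd (hidx ▸
    BrauerReynolds.dvd_of_omega_sum YF id x (hd0 ▸ BlockB.irr_degree_pos η)
      (fun j hj => by rw [← D.YF_deg j hj]; exact (BlockB.irr_degree_cast j).symm)
      (σ := -σ) (by rcases D.sign with h | h <;> simp [h]) (D.YF_sum ht x hx hx1))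
  have hexc : excOK (Nat.card G) (np * e) p false (fun _ => true) d₀ = true := by
    have hdn : Nat.card G % d₀ = 0 := hd0 ▸ Nat.mod_eq_zero_of_dvd (BlockB.irr_degree_dvd_card η)
    have h2 : 2 ≤ d₀ := hd0 ▸ hdeg2 η hη1
    simp [-Nat.card_eq_fintype_card, excOK, h2, hdn, hM0]
  refine ⟨d₀, List.mem_filter.2 ⟨List.mem_range.2 (hd0 ▸ hlt η), hexc⟩, ?_⟩
  set A := ∑ φ ∈ CF, ε φ * q φ
  have hY : ∀ φ ∈ YF, q φ = σ * A := fun φ hφ => by
    have h := D.relation ht φ hφ k hkr
    rw [Finset.sum_congr rfl fun ψ _ => by rw [hqval ψ], hqval φ] at h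
    have h' : A = σ * q φ := by
      simp only [A]
      exact_mod_cast h
    rcases D.sign with hs | hs <;> rw [h', hs] <;> ring
  have hQle : (1 + ∑ φ ∈ CF.erase one, (f φ).2 * (f φ).2) + (t : ℤ) * (A * A) ≤ (c : ℤ) := by
    have h := sum_sq_le k (CF ∪ YF) q fun φ _ => hqval φ
    rw [Finset.sum_union D.disj, Finset.sum_congr rfl (g := fun _ => A * A) (s₁ := YF)
      fun φ hφ => by rw [hY φ hφ]; rcases D.sign with hs | hs <;> rw [hs] <;> ring,
      Finset.sum_const, D.card_YF, if_neg ht, nsmul_eq_mul, ← hnormCF] at h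
    exact h
  obtain ⟨hηR, hηA⟩ := hqmem η hη1
  rw [hd0, hY η hη] at hηR hηA
  have ht' := D.d₀_mod ht
  have hS' : 1 + ∑ φ ∈ CF.erase one, (f φ).1.1 * (f φ).1.1 + t * (d₀ * d₀) ≤ Nat.card G := htot
  simp only [Bool.and_eq_true, Bool.or_eq_true, decide_eq_true_eq, List.contains_iff_mem]
  refine ⟨⟨hS', hQle⟩, ?_⟩
  rcases D.sign with hs | hs <;> subst hs
  · rw [mul_one] at ht'
    have h1 : (d₀ : ℤ) % p = (e : ℤ) % p := Int.modEq_iff_dvd.2 ht'
    rw [one_mul] at hηR hηA
    exact Or.inl ⟨⟨⟨one_mul _, by exact_mod_cast h1⟩, hηR⟩, hηA⟩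
  · have h1 : (d₀ + e) % p = 0 := Nat.mod_eq_zero_of_dvd (Int.natCast_dvd_natCast.1 (by
      have h := ht'.neg_right
      push_cast
      simpa [add_comm] using h))
    rw [neg_one_mul] at hηR hηA
    exact Or.inr ⟨⟨⟨neg_one_mul _, h1⟩, hηR⟩, hηA⟩

end CfsgLib.Recog.OrderM22
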