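import Cfsg.Agent.Lib.ClassK.RowInvolution
import Cfsg.Agent.Lib.Recog.OrderM12.Sieve

/-!
# Simple groups of order 443520: the finite search on the rows at the primes eleven, seven and five

A block row is read first by degrees and then by the values at an involution whose centraliser has
order `c`; rows of several primes are compared on the union of their members.
-/

set_option autoImplicit false

namespace CfsgLib.Recog.OrderM22

open CfsgLib.ClassK CfsgLib.ClassK.RowInvolution
open CfsgLib.Recog.OrderM12 (admissible)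

/-- Prime, automiser order, order of the regular part of the centraliser, degree row. -/
structure Blk where
  p : ℕ
  e : ℕ
  w : ℕ
  l : List (ℕ × Bool)
  d : ℕ
  σ : ℤ
deriving DecidableEq

/-- The number of exceptional rows. -/
def Blk.t (B : Blk) : ℕ := (B.p - 1) / B.e

/-- The number of exceptional members. -/
def Blk.ny (B : Blk) : ℕ := if B.t = 1 then 0 else B.t

/-- The possible degrees. -/
def degList : List ℕ :=
  [2, 3, 4, 5, 6, 7, 8, 9, 10, 11, 12, 14, 15, 16, 18, 20, 21, 22, 24, 28, 30, 32, 33, 35, 36, 40, 42,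
    44, 45, 48, 55, 56, 60, 63, 64, 66, 70, 72, 77, 80, 84, 88, 90, 96, 99, 105, 110, 112, 120, 126,
    128, 132, 140, 144, 154, 160, 165, 168, 176, 180, 192, 198, 210, 220, 224, 231, 240, 252, 264, 280,
    288, 308, 315, 320, 330, 336, 352, 360, 384, 385, 396, 420, 440, 448, 462, 480, 495, 504, 528,
    560, 576, 616, 630, 640, 660]

/-- The degrees allowed for a row. -/
def degCands (M : ℕ) (allow : ℕ → Bool) : List ℕ :=
  degList.filter fun d => decide (M % d = 0) && allow d

/-- The signed degree candidates. -/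
def signCands (p : ℕ) (L : List ℕ) : List (ℕ × Bool) :=
  L.flatMap fun d => (if d % p = 1 then [(d, true)] else []) ++
    (if d % p = p - 1 then [(d, false)] else [])

/-- The degree rows of one configuration. -/
def rowsOf (p e w : ℕ) (allow : ℕ → Bool) : List Blk :=
  let t := (p - 1) / e
  let L := degCands (443520 / (p * w)) allow
  (sols 443520 (signCands p L) (if t = 1 then p - 1 else e - 1) 1).flatMap fun l =>
    let D := 1 + (l.map fun a => sgn a * (a.1 : ℤ)).sum
    let S := 1 + (l.map fun a => a.1 * a.1).sum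
    if t = 1 then (if D = 0 then [⟨p, e, w, l, 0, 1⟩] else [])
    else L.flatMap fun (d : ℕ) =>
      if decide (S + t * (d * d) ≤ 443520) then
        (if decide (D = (d : ℤ)) && decide (d % p = e % p) then [⟨p, e, w, l, d, 1⟩] else []) ++
          (if decide (D = -(d : ℤ)) && decide ((d + e) % p = 0) then [⟨p, e, w, l, d, -1⟩] else [])
      else []

/-- The degrees of all members of a row. -/
def degKeys (B : Blk) : List ℕ := 1 :: (B.l.map Prod.fst ++ List.replicate B.ny B.d)

/-- A bound on the absolute value of an integer of square at most `c`. -/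
def rootBound (c : ℕ) : ℕ :=
  if c < 256 then 16 else if c < 1024 then 32 else if c < 2304 then 48 else if c < 4096 then 64
  else if c < 8281 then 91 else if c < 16384 then 128 else if c < 65536 then 256 else c

/-- The members of `qRange d` of absolute value at most `r`. -/
def shortRange (d r : ℕ) : List ℤ :=
  let lo := (d - r - 4) / 4
  let hi := min ((d - 1) / 2) ((d + r) / 4)
  (List.range (hi - lo)).map fun (i : ℕ) => (d : ℤ) - 4 * (((lo + i : ℕ) : ℤ) + 1)

/-- Is `v` in `qRange d`? -/
def inRange (d : ℕ) (v : ℤ) : Bool :=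
  decide ((d : ℤ) - 4 * (((d - 1) / 2 : ℕ) : ℤ) ≤ v) && decide (v + 4 ≤ (d : ℤ)) &&
    decide (((d : ℤ) - v) % 4 = 0)

/-- Values at an involution of a member of degree `d` with sign as at the prime `p`. -/
def valsAt (p c d : ℕ) : List ℤ :=
  (shortRange d (rootBound c)).filter fun v => admissible 443520 c d v &&
    (decide (c % p ≠ 0) || decide ((v - (d : ℤ)) % (p : ℤ) = 0))

/-- Evaluation of a natural number before use. -/
def forceN {α : Type} (n : ℕ) (f : ℕ → α) : α :=
  match n with
  | 0 => f 0
  | k + 1 => f (k + 1)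

theorem forceN_eq {α : Type} (n : ℕ) (f : ℕ → α) : forceN n f = f n := by cases n <;> rfl

/-- Evaluation of an integer before use. -/
def forceZ {α : Type} (z : ℤ) (f : ℤ → α) : α :=
  match z with
  | Int.ofNat n => forceN n fun m => f (Int.ofNat m)
  | Int.negSucc n => forceN n fun m => f (Int.negSucc m)

theorem forceZ_eq {α : Type} (z : ℤ) (f : ℤ → α) : forceZ z f = f z := by
  cases z <;> simp [forceZ, forceN_eq]

/-- Evaluation of a list of integers before use. -/
def forceZs {α : Type} : List ℤ → (List ℤ → α) → α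
  | [], f => f []
  | z :: zs, f => forceZ z fun m => forceZs zs fun r => f (m :: r)

theorem forceZs_eq {α : Type} : ∀ (l : List ℤ) (f : List ℤ → α), forceZs l f = f l
  | [], _ => rfl
  | z :: zs, f => by simp [forceZs, forceZ_eq, forceZs_eq zs]

/-- The evaluated lists of values of a row. -/
def prep {α : Type} (V : ℕ → List ℤ) :
    List (ℕ × Bool) → (List ((ℕ × Bool) × List ℤ) → α) → α
  | [], f => f []
  | a :: as, f => forceN a.1 fun d => forceZs (V d) fun vs => prep V as fun r => f (((d, a.2), vs) :: r)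

theorem prep_eq {α : Type} (V : ℕ → List ℤ) :
    ∀ (l : List (ℕ × Bool)) (f : List ((ℕ × Bool) × List ℤ) → α),
      prep V l f = f (l.map fun a => (a, V a.1))
  | [], _ => rfl
  | a :: as, f => by simp [prep, forceN_eq, forceZs_eq, prep_eq V as]

/-- Assignments of values with a bounded sum of squares, nondecreasing on equal neighbours; with
`z` the signed sum `A` must end at zero. -/
def assignQ (cost : ℕ → ℤ → ℤ) (c : ℤ) (z : Bool) : List ((ℕ × Bool) × List ℤ) → ℤ → ℤ →
    Option ((ℕ × Bool) × ℤ) → List (List ((ℕ × Bool) × ℤ))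
  | [], _, _, _ => [[]]
  | a :: as, Q, A, prev => a.2.flatMap fun v =>
      forceZ (A + sgn a.1 * v) fun A' => forceZ (Q + cost a.1.1 v) fun Q' =>
      if decide (Q' ≤ c) && (!z || !as.isEmpty || decide (A' = 0)) && (match prev with
          | some b => decide (b.1 ≠ a.1) || decide (b.2 ≤ v)
          | none => true) then
        (assignQ cost c z as Q' A' (some (a.1, v))).map ((a.1, v) :: ·)
      else []

/-- Is `m` a square (true also for large `m`)? -/
def squareOK (m : ℕ) : Bool :=
  decide (1000000 ≤ m) || (List.range 1000).any fun j => decide (j * j = m)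

/-- The test on the number of pairs of conjugates, for the scaled sum `x`. -/
def pairsOK (p e c : ℕ) (x : ℤ) : Bool :=
  decide (x % ((c * c * p : ℕ) : ℤ) = 0) && decide (0 ≤ x) &&
    (if e % 2 = 1 then decide (x = 0) else squareOK (x / ((c * c * p : ℕ) : ℤ)).toNat)

/-- Configurations excluded at a centraliser order. -/
def excluded (B : Blk) (c : ℕ) : Bool :=
  decide (c % B.p = 0) && (decide (B.w % 2 = 1) ||
    (decide (B.p = 7) && decide (B.e = 6) && decide (B.w = 4) && decide (c = 896)))

/-- The members with their values, for the values `r` of the nonexceptional ones. -/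
def members (B : Blk) (c : ℕ) (r : List ((ℕ × Bool) × ℤ)) : List (List (ℕ × ℤ)) :=
  let A := 1 + (r.map fun a => sgn a.1 * a.2).sum
  let E := (443520 : ℤ) + (r.map fun a => sgn a.1 * a.2 * a.2 * ((443520 / a.1.1 : ℕ) : ℤ)).sum
  let Q := 1 + (r.map fun a => a.2 * a.2).sum
  if B.t = 1 then
    (if decide (A = 0) && pairsOK B.p B.e c ((B.w : ℤ) * E) then
      [(1, 1) :: r.map fun a => (a.1.1, a.2)] else [])
  else
    let v := B.σ * A
    if inRange B.d v && admissible 443520 c B.d v &&
        decide (Q + (B.t : ℤ) * (v * v) ≤ (c : ℤ)) &&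
        pairsOK B.p B.e c ((B.w : ℤ) * (E - B.σ * (v * v) * ((443520 / B.d : ℕ) : ℤ))) then
      [(1, 1) :: (r.map (fun a => (a.1.1, a.2)) ++ List.replicate B.t (B.d, v))]
    else []

/-- The rows with values at an involution with centraliser of order `c`. -/
def vec (B : Blk) (c : ℕ) : List (List (ℕ × ℤ)) :=
  if excluded B c then [] else
    prep (valsAt B.p c) B.l fun L => if L.any (fun a => a.2.isEmpty) then [] else
      (assignQ (fun _ v => v * v) (c : ℤ) (decide (B.t = 1)) L 1 1 none).flatMap (members B c)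

/-- The values allowed next to the row `x` at eleven. -/
def valsNext (p c : ℕ) (x : List (ℕ × ℤ)) (d : ℕ) : List ℤ :=
  (valsAt p c d).filter fun v => decide (d % 11 = 0) || x.contains (d, v)

/-- The cost of a member next to a row at eleven. -/
def costNext (d : ℕ) (v : ℤ) : ℤ := if d % 11 = 0 then v * v else 0

/-- The rows with values next to the row `x` at eleven. -/
def vecNext (B : Blk) (c : ℕ) (x : List (ℕ × ℤ)) : List (List (ℕ × ℤ)) :=
  if excluded B c then [] else
    prep (valsNext B.p c x) B.l fun L => if L.any (fun a => a.2.isEmpty) then [] else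
      forceZ (x.map fun k => k.2 * k.2).sum fun Q =>
      (assignQ costNext (c : ℤ) (decide (B.t = 1)) L Q 1 none).flatMap (members B c)

/-- Union of multisets. -/
def unionL {α : Type*} [DecidableEq α] (a b : List α) : List α := a ++ b.diff a

/-- Inclusion of multisets. -/
def leL {α : Type*} [DecidableEq α] (b a : List α) : Bool := (b.diff a).isEmpty

/-- With a self-centralising element the other members have degree divisible by `p`. -/
def compatD (B : Blk) (x y : List ℕ) : Bool :=
  decide (B.w ≠ 1) || leL (y.filter fun d => decide (d % B.p ≠ 0)) x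

/-- The same on members with values. -/
def compatV (B : Blk) (x y : List (ℕ × ℤ)) : Bool :=
  decide (B.w ≠ 1) || leL (y.filter fun k => decide (k.1 % B.p ≠ 0)) x

/-- The norm test. -/
def normOK (c : ℕ) (u : List (ℕ × ℤ)) : Bool :=
  decide ((u.map fun k => k.2 * k.2).sum ≤ (c : ℤ))

/-- The bound on squares of degrees. -/
def sqOK (u : List ℕ) : Bool := decide ((u.map fun d => d * d).sum ≤ 443520)

/-- Two rows compatible by degrees. -/
def degPair (A B : Blk) : Bool :=
  compatD A (degKeys A) (degKeys B) && compatD B (degKeys B) (degKeys A) &&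
    sqOK (unionL (degKeys A) (degKeys B))

/-- Three rows compatible by degrees. -/
def degTriple (A B C : Blk) : Bool :=
  compatD B (degKeys B) (degKeys C) && compatD C (degKeys C) (degKeys B) &&
    sqOK (unionL (unionL (degKeys A) (degKeys B)) (degKeys C))

/-- Two rows compatible at an involution. -/
def pairAt (A B : Blk) (c : ℕ) : Bool :=
  (vec A c).any fun x => (vecNext B c x).any fun y =>
    compatV A x y && compatV B y x && normOK c (unionL x y)

/-- Three rows compatible at an involution. -/
def tripleAt (A B C : Blk) (c : ℕ) : Bool :=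
  (vec A c).any fun x => (vecNext B c x).any fun y => (vecNext C c x).any fun z =>
    compatV A x y && compatV B y x && compatV A x z && compatV C z x && compatV B y z &&
      compatV C z y && normOK c (unionL (unionL x y) z)

/-- The divisors of `40320`. -/
def cenOrders : List ℕ :=
  [1, 2, 3, 4, 5, 6, 7, 8, 9, 10, 12, 14, 15, 16, 18, 20, 21, 24, 28, 30, 32, 35, 36, 40, 42, 45,
    48, 56, 60, 63, 64, 70, 72, 80, 84, 90, 96, 105, 112, 120, 126, 128, 140, 144, 160, 168, 180,
    192, 210, 224, 240, 252, 280, 288, 315, 320, 336, 360, 384, 420, 448, 480, 504, 560, 576, 630,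
    640, 672, 720, 840, 896, 960, 1008, 1120, 1152, 1260, 1344, 1440, 1680, 1920, 2016, 2240,
    2520, 2688, 2880, 3360, 4032, 4480, 5040, 5760, 6720, 8064, 10080, 13440, 20160, 40320]

/-- Centraliser orders of central involutions. -/
def centralOrders : List ℕ :=
  [128, 384, 640, 896, 1152, 1920, 2688, 4480, 5760, 8064, 13440, 40320]

/-- Centraliser orders of involutions centralising an element of order `p`. -/
def atPrimeOrders (p : ℕ) : List ℕ :=
  cenOrders.filter fun c => decide (c % 2 = 0) && decide (c % p = 0)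

/-- Pairs of rows surviving the two kinds of involutions. -/
def pairLive (A B : Blk) : Bool :=
  degPair A B && (decide (B.w % 2 = 1) || (atPrimeOrders B.p).any (pairAt A B)) &&
    centralOrders.any (pairAt A B)

/-- Triples of rows surviving. -/
def tripleLive (A B C : Blk) : Bool :=
  degTriple A B C && (decide (C.w % 2 = 1) || (atPrimeOrders C.p).any (tripleAt A B C)) &&
    centralOrders.any (tripleAt A B C)

/-- The configurations `(e, w)` at `p`. -/
def configs (p : ℕ) : List (ℕ × ℕ) :=
  (List.range p).flatMap fun e =>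
    if decide (2 ≤ e) && decide ((p - 1) % e = 0) then
      ((([1, 2, 4, 8, 16, 32, 64, 128].flatMap fun a =>
        ([1, 3, 5, 7, 9, 11, 15, 21, 33, 35, 45, 55, 63, 77, 99, 105, 165, 231, 315, 385, 495, 693,
          1155, 3465]).map (a * ·))).filter fun w =>
        decide (443520 % (p * e * w) = 0) && decide (443520 / (p * e * w) % p = 1) &&
          decide (443520 / (p * e * w) ≠ 1)).map fun w => (e, w)
    else []

/-- The allowed degrees next to the row `A` at eleven. -/
def nextTo (A : Blk) (d : ℕ) : Bool := decide (d % 11 = 0) || (degKeys A).contains d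

theorem mem_degList : ∀ d < 666, 2 ≤ d → 443520 % d = 0 → d ∈ degList := by decide +kernel

theorem mem_cenOrders {c : ℕ} (h : c ∣ 40320) : c ∈ cenOrders := by
  rw [show (40320 : ℕ) = 128 * 315 by norm_num, Nat.dvd_mul] at h
  obtain ⟨a, b, ha, hb, rfl⟩ := h
  suffices hab : a ∈ [1, 2, 4, 8, 16, 32, 64, 128] ∧
      b ∈ [1, 3, 5, 7, 9, 15, 21, 35, 45, 63, 105, 315] by
    have hd : ∀ a ∈ [1, 2, 4, 8, 16, 32, 64, 128],
        ∀ b ∈ [1, 3, 5, 7, 9, 15, 21, 35, 45, 63, 105, 315], a * b ∈ cenOrders := by decide +kernel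
    exact hd a hab.1 b hab.2
  refine ⟨?_, ?_⟩
  · have := Nat.le_of_dvd (by norm_num) ha
    have hd : ∀ a ≤ 128, 128 % a = 0 → a ∈ [1, 2, 4, 8, 16, 32, 64, 128] := by decide +kernel
    exact hd a this (Nat.mod_eq_zero_of_dvd ha)
  · have := Nat.le_of_dvd (by norm_num) hb
    have hd : ∀ b ≤ 315, 315 % b = 0 → b ∈ [1, 3, 5, 7, 9, 15, 21, 35, 45, 63, 105, 315] := by
      decide +kernel
    exact hd b this (Nat.mod_eq_zero_of_dvd hb)

theorem mem_centralOrders {c : ℕ} (h : c ∣ 40320) (h128 : 128 ∣ c) : c ∈ centralOrders := by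
  obtain ⟨b, rfl⟩ := h128
  rw [show (40320 : ℕ) = 128 * 315 by norm_num] at h
  have hb : b ∣ 315 := Nat.dvd_of_mul_dvd_mul_left (by norm_num) h
  have := Nat.le_of_dvd (by norm_num) hb
  have hd : ∀ b ≤ 315, 315 % b = 0 → b ∈ [1, 3, 5, 7, 9, 15, 21, 35, 45, 63, 105, 315] := by
    decide +kernel
  have hd' : ∀ b ∈ [1, 3, 5, 7, 9, 15, 21, 35, 45, 63, 105, 315], 128 * b ∈ centralOrders := by
    decide +kernel
  exact hd' b (hd b this (Nat.mod_eq_zero_of_dvd hb))

theorem mem_configs {p e w : ℕ} (hep : e < p) (he : 2 ≤ e) (hd : (p - 1) % e = 0)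
    (hw : p * e * w ∣ 443520) (hm : 443520 / (p * e * w) % p = 1)
    (h1 : 443520 / (p * e * w) ≠ 1) : (e, w) ∈ configs p := by
  refine List.mem_flatMap.2 ⟨e, List.mem_range.2 hep, ?_⟩
  rw [if_pos (by simp [he, hd])]
  refine List.mem_map.2 ⟨w, List.mem_filter.2 ⟨?_, by simp [Nat.mod_eq_zero_of_dvd hw, hm, h1]⟩, rfl⟩
  have hw' : w ∣ 443520 := (dvd_mul_left w (p * e)).trans hw
  rw [show (443520 : ℕ) = 128 * 3465 by norm_num, Nat.dvd_mul] at hw'
  obtain ⟨a, b, ha, hb, rfl⟩ := hw'
  refine List.mem_flatMap.2 ⟨a, ?_, List.mem_map.2 ⟨b, ?_, rfl⟩⟩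
  · have := Nat.le_of_dvd (by norm_num) ha
    have hd : ∀ a ≤ 128, 128 % a = 0 → a ∈ [1, 2, 4, 8, 16, 32, 64, 128] := by decide +kernel
    exact hd a this (Nat.mod_eq_zero_of_dvd ha)
  · have := Nat.le_of_dvd (by norm_num) hb
    set_option maxRecDepth 100000 in
    have hd : ∀ b ≤ 3465, 3465 % b = 0 → b ∈ [1, 3, 5, 7, 9, 11, 15, 21, 33, 35, 45, 55, 63, 77, 99,
        105, 165, 231, 315, 385, 495, 693, 1155, 3465] := by decide +kernel
    exact hd b this (Nat.mod_eq_zero_of_dvd hb)

theorem inRange_of_mem {d : ℕ} {v : ℤ} (h : v ∈ qRange d) : inRange d v = true := by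
  obtain ⟨i, hi, rfl⟩ := List.mem_map.1 h
  rw [List.mem_range] at hi
  simp only [inRange, Bool.and_eq_true, decide_eq_true_eq]
  omega

theorem mem_shortRange {d c : ℕ} {v : ℤ} (h : v ∈ qRange d) (hc : v * v ≤ (c : ℤ)) :
    v ∈ shortRange d (rootBound c) := by
  obtain ⟨i, hi, rfl⟩ := List.mem_map.1 h
  rw [List.mem_range] at hi
  set r := rootBound c with hr
  have hr2 : c ≤ r * r := by
    rw [hr]; unfold rootBound
    split_ifs <;> first | omega | nlinarith
  have hb : -(r : ℤ) ≤ (d : ℤ) - 4 * ((i : ℤ) + 1) ∧ (d : ℤ) - 4 * ((i : ℤ) + 1) ≤ r := by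
    have h' : ((d : ℤ) - 4 * ((i : ℤ) + 1)) ^ 2 ≤ (r : ℤ) ^ 2 := by
      have : (c : ℤ) ≤ (r : ℤ) * r := by exact_mod_cast hr2
      nlinarith
    exact abs_le.1 (abs_le_of_sq_le_sq h' (by positivity))
  refine List.mem_map.2 ⟨i - (d - r - 4) / 4, List.mem_range.2 (by omega), ?_⟩
  rw [show (d - r - 4) / 4 + (i - (d - r - 4) / 4) = i by omega]

theorem squareOK_sq (j : ℕ) : squareOK (j * j) = true := by
  rw [squareOK, Bool.or_eq_true, decide_eq_true_eq, List.any_eq_true]
  by_cases h : j < 1000
  · exact Or.inr ⟨j, List.mem_range.2 h, decide_eq_true rfl⟩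
  · exact Or.inl (by nlinarith)

theorem pairsOK_of {p e c j : ℕ} (hp : 0 < p) (hc : 0 < c) (hj : e % 2 = 1 → j = 0) {x : ℤ}
    (hx : x = (c : ℤ) * c * ((p * j * j : ℕ) : ℤ)) : pairsOK p e c x = true := by
  have e1 : x = ((c * c * p : ℕ) : ℤ) * ((j * j : ℕ) : ℤ) := by rw [hx]; push_cast; ring
  have hd : ((c * c * p : ℕ) : ℤ) ≠ 0 := by positivity
  simp only [pairsOK, Bool.and_eq_true, decide_eq_true_eq]
  refine ⟨⟨by rw [e1]; exact Int.mul_emod_right _ _, by rw [e1]; positivity⟩, ?_⟩
  split_ifs with he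
  · rw [e1, hj he]; simp
  · rw [e1, Int.mul_ediv_cancel_left _ hd, Int.toNat_natCast]
    exact squareOK_sq j

theorem assignQ_sound {ι : Type*} (f : ι → ℕ × Bool) (q : ι → ℤ) (V : ℕ → List ℤ) (cost : ℕ → ℤ → ℤ)
    (hcost : ∀ d v, 0 ≤ cost d v) (c : ℤ) (z : Bool) :
    ∀ (l : List (ℕ × Bool)) (m : Multiset ι) (Q A : ℤ) (prev : Option ((ℕ × Bool) × ℤ)),
      (∀ i ∈ m, q i ∈ V (f i).1) → (∀ i ∈ m, ∀ b ∈ prev, f i = b.1 → b.2 ≤ q i) →
      m.map f = ↑l → Q + (m.map fun i => cost (f i).1 (q i)).sum ≤ c →
      (z = true → A + (m.map fun i => sgn (f i) * q i).sum = 0) →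
      ∃ r ∈ assignQ cost c z (l.map fun a => (a, V a.1)) Q A prev,
        m.map (fun i => (f i, q i)) = ↑r := by
  classical
  intro l
  induction l with
  | nil =>
    intro m Q A prev _ _ h _ _
    obtain rfl : m = 0 := Multiset.map_eq_zero.1 h
    exact ⟨[], by simp [assignQ], by simp⟩
  | cons a as ih =>
    intro m Q A prev hq hlo h hQ hz
    have ha : a ∈ m.map f := by rw [h]; simp
    obtain ⟨i₀, hi₀, rfl⟩ := Multiset.mem_map.1 ha
    obtain ⟨i, hi, hmin⟩ := Finset.exists_min_image (m.toFinset.filter fun j => f j = f i₀) q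
      ⟨i₀, Finset.mem_filter.2 ⟨Multiset.mem_toFinset.2 hi₀, rfl⟩⟩
    obtain ⟨him, hfi⟩ := Finset.mem_filter.1 hi
    rw [Multiset.mem_toFinset] at him
    obtain ⟨m', rfl⟩ := Multiset.exists_cons_of_mem him
    rw [Multiset.map_cons, ← Multiset.cons_coe, hfi, Multiset.cons_inj_right] at h
    rw [Multiset.map_cons, Multiset.sum_cons, ← add_assoc, hfi] at hQ
    have hz' : z = true → A + sgn (f i₀) * q i + (m'.map fun i => sgn (f i) * q i).sum = 0 := fun e => by
      have h' := hz e
      rwa [Multiset.map_cons, Multiset.sum_cons, ← add_assoc, hfi] at h'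
    have hnn : 0 ≤ (m'.map fun i => cost (f i).1 (q i)).sum := Multiset.sum_nonneg fun x hx => by
      obtain ⟨k, -, rfl⟩ := Multiset.mem_map.1 hx
      exact hcost _ _
    obtain ⟨r, hr, hmap⟩ := ih m' (Q + cost (f i₀).1 (q i)) (A + sgn (f i₀) * q i) (some (f i₀, q i))
      (fun j hj => hq j (Multiset.mem_cons_of_mem hj))
      (fun j hj b hb hjb => by
        obtain rfl : (f i₀, q i) = b := Option.some.inj hb
        exact hmin j (Finset.mem_filter.2
          ⟨Multiset.mem_toFinset.2 (Multiset.mem_cons_of_mem hj), hjb⟩)) h hQ hz'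
    refine ⟨(f i₀, q i) :: r, ?_, ?_⟩
    · simp only [List.map_cons, assignQ, List.mem_flatMap, forceZ_eq]
      refine ⟨q i, hfi ▸ hq i (Multiset.mem_cons_self _ _), ?_⟩
      rw [if_pos]
      · exact List.mem_map.2 ⟨r, hr, rfl⟩
      · rw [Bool.and_eq_true, Bool.and_eq_true, decide_eq_true_eq]
        refine ⟨⟨by linarith, ?_⟩, ?_⟩
        · rcases as with - | ⟨b, bs⟩
          · obtain rfl : m' = 0 := Multiset.map_eq_zero.1 h
            rcases z with - | -
            · rfl
            · simpa using hz' rfl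
          · simp
        · rcases prev with - | b
          · rfl
          · simp only [Bool.or_eq_true, decide_eq_true_eq]
            by_cases hb : b.1 = f i₀
            · exact Or.inr (hlo i (Multiset.mem_cons_self _ _) b rfl (hfi.trans hb.symm))
            · exact Or.inl hb
    · rw [Multiset.map_cons, hmap, Multiset.cons_coe, hfi]

/-- No value list is empty next to an assignment. -/
theorem any_isEmpty_eq {ι : Type*} (f : ι → ℕ × Bool) (q : ι → ℤ) (V : ℕ → List ℤ)
    {l : List (ℕ × Bool)} {m : Multiset ι} (hq : ∀ i ∈ m, q i ∈ V (f i).1) (h : m.map f = ↑l) :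
    (l.map fun a => (a, V a.1)).any (fun a => a.2.isEmpty) = false := by
  rw [List.any_eq_false]
  intro a ha
  obtain ⟨b, hb, rfl⟩ := List.mem_map.1 ha
  have hb' : b ∈ m.map f := by rw [h]; exact hb
  obtain ⟨i, hi, rfl⟩ := Multiset.mem_map.1 hb'
  simp [List.ne_nil_of_mem (hq i hi)]

variable {α : Type*} [DecidableEq α]

theorem coe_unionL (a b : List α) :
    (↑(unionL a b) : Multiset α) = ↑a ∪ ↑b := by
  rw [unionL, ← Multiset.coe_add, ← Multiset.coe_sub]
  refine Multiset.ext' fun x => ?_
  rw [Multiset.count_add, Multiset.count_sub, Multiset.count_union]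
  omega

theorem leL_of_le {a b : List α} (h : (↑b : Multiset α) ≤ ↑a) : leL b a = true := by
  rw [leL, List.isEmpty_iff, ← Multiset.coe_eq_zero, ← Multiset.coe_sub, tsub_eq_zero_iff_le]
  exact h

end CfsgLib.Recog.OrderM22
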